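import Mathlib
import Cfsg.Agent.Lib.Clifford.Extension
import Cfsg.Agent.Lib.CharInt.Central
import Cfsg.Agent.Lib.Char.Orthogonality
import Cfsg.Agent.Lib.PGroup.Extraspecial
import Cfsg.Agent.Lib.PGroup.ExtraspecialClassify

/-!
# Spin representations of extraspecial 2-groups

For an extraspecial 2-group `E` a representation is *spin* if the central involution acts as `-1`.

* `card_eq`, `span_eq_top`, `sum_conj`: an irreducible spin representation `π` of degree `D` has
  `|E| = 2 D^2`, spans all endomorphisms and averages endomorphisms to their trace.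
* `exists_intertwiner`, `exists_scalar_of_lifts`: intertwiners of automorphisms exist and are
  unique up to scalars.
* `Lifts`, `Inner`, `HasLift`; `hasLift_of_model`: lifting an action in an irreducible spin
  representation gives lifts, inner to the image of `E`, in every spin representation.
-/

set_option autoImplicit false
set_option linter.style.haveILetI false
set_option linter.unusedSectionVars false

namespace Cfsg.Agent.SpinExt

open Representation Module
open scoped ComplexConjugate commutatorElement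

universe u

variable {E : Type u} [Group E] {S : Type u} [Group S]
variable {V : Type} [AddCommGroup V] [Module ℂ V] [FiniteDimensional ℂ V]

/-- The central involution acts as `-1`. -/
def Spin (π : Representation ℂ E V) : Prop := ∀ c ∈ Subgroup.center E, c ≠ 1 → π c = -1

/-- The image of `E` in the units. -/
noncomputable abbrev U (π : Representation ℂ E V) : E →* (Module.End ℂ V)ˣ :=
  MonoidHom.toHomUnits π

theorem U_apply (π : Representation ℂ E V) (e : E) : ((U π e : (Module.End ℂ V)ˣ) : Module.End ℂ V) = π e :=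
  rfl

/-- `X` intertwines `π` with its twist by `f`. -/
def Intertwines (π : Representation ℂ E V) (f : E ≃* E) (X : (Module.End ℂ V)ˣ) : Prop :=
  ∀ e, X * U π e = U π (f e) * X

/-- `P` lifts the action `σ`. -/
def Lifts (π : Representation ℂ E V) (σ : S →* MulAut E) (P : S →* (Module.End ℂ V)ˣ) : Prop :=
  ∀ s, Intertwines π (σ s) (P s)

/-- Commuting with everything that centralises the image of `E`. -/
def Inner (π : Representation ℂ E V) (a : Module.End ℂ V) : Prop :=
  ∀ b, (∀ e, Commute b (π e)) → Commute b a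

/-- The action lifts, by elements inner to `E`, in every spin representation. -/
def HasLift (σ : S →* MulAut E) : Prop :=
  ∀ (V : Type) [AddCommGroup V] [Module ℂ V] [FiniteDimensional ℂ V] (π : Representation ℂ E V),
    Spin π → ∃ P : S →* (Module.End ℂ V)ˣ, Lifts π σ P ∧ ∀ s, Inner π (P s)

theorem Intertwines.mul {π : Representation ℂ E V} {f g : MulAut E} {X Y : (Module.End ℂ V)ˣ}
    (hX : Intertwines π f X) (hY : Intertwines π g Y) : Intertwines π (f * g) (X * Y) := fun e => by
  rw [mul_assoc, hY e, ← mul_assoc, hX, mul_assoc, MulAut.mul_apply]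

theorem Intertwines.inv {π : Representation ℂ E V} {f : MulAut E} {X : (Module.End ℂ V)ˣ}
    (hX : Intertwines π f X) : Intertwines π (f⁻¹ : MulAut E) X⁻¹ := fun e => by
  have h := hX (f⁻¹ e)
  rw [MulAut.apply_inv_self] at h
  rw [inv_mul_eq_iff_eq_mul, ← mul_assoc, eq_mul_inv_iff_mul_eq, h]

theorem Intertwines.one {π : Representation ℂ E V} : Intertwines π (1 : MulAut E) 1 := fun e => by
  simp

theorem Intertwines.pow {π : Representation ℂ E V} {f : MulAut E} {X : (Module.End ℂ V)ˣ}
    (hX : Intertwines π f X) (k : ℕ) : Intertwines π (f ^ k) (X ^ k) := by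
  induction k with
  | zero => simpa using Intertwines.one
  | succ k ih => rw [pow_succ, pow_succ]; exact ih.mul hX

theorem Intertwines.mul_scalar {π : Representation ℂ E V} {f : MulAut E} {X : (Module.End ℂ V)ˣ}
    (hX : Intertwines π f X) (c : ℂˣ) : Intertwines π f (X * Clifford.scalarUnit V c) := fun e => by
  rw [mul_assoc, Clifford.scalarUnit_comm, ← mul_assoc, hX, mul_assoc]

theorem Intertwines.of_one {π : Representation ℂ E V} {X : (Module.End ℂ V)ˣ}
    (hX : Intertwines π (1 : MulAut E) X) (e : E) : Commute (X : Module.End ℂ V) (π e) :=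
  congrArg Units.val (hX e)

section Center

variable [Finite E] (hE : IsExtraspecial 2 E)
include hE

theorem exists_z : ∃ z : E, z ∈ Subgroup.center E ∧ z ≠ 1 ∧ z * z = 1 ∧
    ∀ c ∈ Subgroup.center E, c = 1 ∨ c = z := by
  haveI : Fact (Nat.Prime 2) := ⟨Nat.prime_two⟩
  obtain ⟨z, hz, hz1⟩ := PGroup.exists_center_ne_one hE
  exact ⟨z, hz, hz1, by rw [← pow_two]; exact PGroup.special_center_pow hE.1 hz,
    fun c hc => PGroup.eq_or_eq_of_mem_center hE hz hz1 hc⟩

theorem aut_apply_center (f : E ≃* E) {c : E} (hc : c ∈ Subgroup.center E) : f c = c := by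
  obtain ⟨z, hz, hz1, -, hor⟩ := exists_z hE
  have hfc : f c ∈ Subgroup.center E := Subgroup.mem_center_iff.2 fun g => by
    have := congrArg f (Subgroup.mem_center_iff.1 hc (f.symm g))
    simpa using this
  rcases hor c hc with rfl | rfl
  · exact map_one f
  · rcases hor _ hfc with h | h
    · exact absurd (f.injective (h.trans (map_one f).symm)) hz1
    · exact h

theorem commutator_mem (a b : E) : ⁅a, b⁆ ∈ Subgroup.center E :=
  PGroup.special_commutator_mem_center hE.1 a b

variable {π : Representation ℂ E V}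

theorem trace_eq_zero (hπ : Spin π) {x : E} (hx : x ∉ Subgroup.center E) :
    LinearMap.trace ℂ V (π x) = 0 := by
  rw [Subgroup.mem_center_iff] at hx
  push Not at hx
  obtain ⟨y, hy⟩ := hx
  have hc : ⁅y, x⁆ ≠ 1 := fun h => hy (commutatorElement_eq_one_iff_mul_comm.1 h)
  have h1 : π (y * x * y⁻¹) = -π x := by
    rw [show y * x * y⁻¹ = ⁅y, x⁆ * x by rw [commutatorElement_def]; group, map_mul,
      hπ _ (commutator_mem hE y x) hc, neg_one_mul]
  have h2 := congrArg (LinearMap.trace ℂ V) h1
  rw [map_neg, map_mul π, map_mul π, LinearMap.trace_mul_comm ℂ, ← mul_assoc, ← map_mul π,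
    inv_mul_cancel, map_one π, one_mul] at h2
  linear_combination h2 / 2

theorem trace_center (hπ : Spin π) {c : E} (hc : c ∈ Subgroup.center E) (hc1 : c ≠ 1) :
    LinearMap.trace ℂ V (π c) = -(finrank ℂ V : ℂ) := by
  rw [hπ c hc hc1, map_neg, LinearMap.trace_one]

theorem sum_center {A : Type*} [AddCommMonoid A] [Fintype E] (F : E → A)
    (h0 : ∀ x, x ∉ Subgroup.center E → F x = 0) :
    ∃ z, z ∈ Subgroup.center E ∧ z ≠ 1 ∧ ∑ x, F x = F 1 + F z := by
  classical
  obtain ⟨z, hz, hz1, -, hor⟩ := exists_z hE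
  refine ⟨z, hz, hz1, ?_⟩
  rw [← Finset.sum_pair (f := F) hz1.symm]
  refine (Finset.sum_subset (Finset.subset_univ _) fun x _ hx => h0 x fun hc => hx ?_).symm
  rcases hor x hc with rfl | rfl <;> simp

theorem card_eq [π.IsIrreducible] (hπ : Spin π) : Nat.card E = 2 * (finrank ℂ V) ^ 2 := by
  haveI := Fintype.ofFinite E
  have h1 := Char.classInner_irr_self (Char.isIrrCharacter_character π inferInstance)
  obtain ⟨z, hz, hz1, hsum⟩ := sum_center hE
    (fun x => π.character x * conj (π.character x)) fun x hx => by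
      rw [Representation.character, trace_eq_zero hE hπ hx, zero_mul]
  rw [classInner, hsum, Representation.char_one, Representation.character,
    trace_center hE hπ hz hz1, map_neg, map_natCast,
    inv_mul_eq_one₀ (Nat.cast_ne_zero.2 Nat.card_pos.ne')] at h1
  have h2 : ((Nat.card E : ℕ) : ℂ) = ((2 * finrank ℂ V ^ 2 : ℕ) : ℂ) := by
    rw [h1]; push_cast; ring
  exact_mod_cast h2

theorem finrank_ne_zero [π.IsIrreducible] (hπ : Spin π) : (finrank ℂ V : ℂ) ≠ 0 := by
  intro h
  have := card_eq hE hπ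
  rw [Nat.cast_eq_zero.1 h] at this
  exact (Nat.card_pos (α := E)).ne' (by simpa using this)

theorem span_eq_top [π.IsIrreducible] (hπ : Spin π) :
    Submodule.span ℂ (Set.range fun x : E => π x) = ⊤ := by
  classical
  haveI : Fintype (E ⧸ Subgroup.center E) := Fintype.ofFinite _
  have hD : 0 < finrank ℂ V := Nat.pos_of_ne_zero fun h => finrank_ne_zero hE hπ (by simp [h])
  set b : E ⧸ Subgroup.center E → Module.End ℂ V := fun q => π q.out with hb
  have hli : LinearIndependent ℂ b := by
    refine Fintype.linearIndependent_iff.2 fun g hg q₀ => ?_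
    have h1 := congrArg (fun M => LinearMap.trace ℂ V (M * π q₀.out⁻¹)) hg
    simp only [hb, Finset.sum_mul, smul_mul_assoc, map_sum, map_smul, zero_mul, map_zero,
      ← map_mul, smul_eq_mul] at h1
    rw [Finset.sum_eq_single q₀] at h1
    · rw [mul_inv_cancel, map_one, LinearMap.trace_one] at h1
      exact (mul_eq_zero.1 h1).resolve_right (finrank_ne_zero hE hπ)
    · intro q _ hq
      rw [trace_eq_zero hE hπ fun hc => hq ?_, mul_zero]
      rw [← QuotientGroup.out_eq' q, ← QuotientGroup.out_eq' q₀, QuotientGroup.eq]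
      simpa [mul_assoc] using Subgroup.Normal.conj_mem inferInstance _ (Subgroup.inv_mem _ hc) q.out⁻¹
    · simp
  have hcard : Fintype.card (E ⧸ Subgroup.center E) = finrank ℂ (Module.End ℂ V) := by
    rw [Module.finrank_linearMap, ← Nat.card_eq_fintype_card]
    have h1 := Subgroup.card_eq_card_quotient_mul_card_subgroup (Subgroup.center E)
    rw [hE.2, card_eq hE hπ] at h1
    linarith
  haveI : Nonempty (E ⧸ Subgroup.center E) := ⟨1⟩
  rw [eq_top_iff, ← hli.span_eq_top_of_card_eq_finrank hcard]
  exact Submodule.span_mono (by rintro _ ⟨q, rfl⟩; exact ⟨_, rfl⟩)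

theorem sum_conj [Fintype E] [π.IsIrreducible] (hπ : Spin π) (M : Module.End ℂ V) :
    ∑ x : E, π x * M * π x⁻¹ =
      (2 * (finrank ℂ V : ℂ) * LinearMap.trace ℂ V M) • (1 : Module.End ℂ V) := by
  obtain ⟨c, hc⟩ := CharInt.exists_eq_smul_one_of_commute π (∑ x : E, π x * M * π x⁻¹) fun g => by
    rw [Finset.sum_mul, Finset.mul_sum]
    refine Fintype.sum_equiv (Equiv.mulLeft g⁻¹) _ _ fun x => ?_
    rw [Equiv.coe_mulLeft, ← mul_assoc, ← mul_assoc, ← map_mul, mul_inv_cancel_left, mul_assoc,
      ← map_mul]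
    simp
  have ht := congrArg (LinearMap.trace ℂ V) hc
  rw [map_sum, Finset.sum_congr rfl fun x _ => show
      LinearMap.trace ℂ V (π x * M * π x⁻¹) = LinearMap.trace ℂ V M by
    rw [LinearMap.trace_mul_comm ℂ, ← mul_assoc, ← map_mul, inv_mul_cancel, map_one, one_mul],
    Finset.sum_const, Finset.card_univ, ← Nat.card_eq_fintype_card, card_eq hE hπ, map_smul,
    LinearMap.trace_one, nsmul_eq_mul, smul_eq_mul] at ht
  rw [hc]
  congr 1
  refine mul_right_cancel₀ (finrank_ne_zero hE hπ) (ht.symm.trans ?_)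
  push_cast; ring

theorem exists_intertwiner [π.IsIrreducible] (hπ : Spin π) (f : E ≃* E) :
    ∃ X, Intertwines π f X := by
  obtain ⟨L, hL⟩ := Clifford.exists_linearEquiv_of_character_eq π (π.comp f.toMonoidHom)
    (funext fun x => by
      show LinearMap.trace ℂ V (π (f x)) = LinearMap.trace ℂ V (π x)
      by_cases hx : x ∈ Subgroup.center E
      · rw [aut_apply_center hE f hx]
      · rw [trace_eq_zero hE hπ hx, trace_eq_zero hE hπ fun h => hx ?_]
        have := aut_apply_center hE f.symm h
        rw [f.symm_apply_apply] at this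
        rw [this]; exact h)
  exact ⟨⟨L.toLinearMap, L.symm.toLinearMap, LinearMap.ext fun v => L.apply_symm_apply v,
    LinearMap.ext fun v => L.symm_apply_apply v⟩,
    fun e => Units.ext (LinearMap.ext fun v => hL e v)⟩

omit hE in
theorem exists_scalar_of_intertwines [π.IsIrreducible] {f : MulAut E} {X Y : (Module.End ℂ V)ˣ}
    (hX : Intertwines π f X) (hY : Intertwines π f Y) :
    ∃ c : ℂˣ, Y = X * Clifford.scalarUnit V c := by
  haveI : Nontrivial V := Char.nontrivial_of_isIrreducible π
  have h1 := hX.inv.mul hY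
  rw [inv_mul_cancel] at h1
  obtain ⟨c, hc⟩ := Clifford.exists_scalar_of_commute π _ fun g => h1.of_one g
  have hc0 : c ≠ 0 := by
    rintro rfl
    rw [map_zero] at hc
    exact (X⁻¹ * Y).ne_zero hc
  refine ⟨Units.mk0 c hc0, ?_⟩
  rw [← show X⁻¹ * Y = Clifford.scalarUnit V (Units.mk0 c hc0) from Units.ext hc, mul_inv_cancel_left]

/-- A lift across a cyclic quotient: the intertwiner can be scaled to have the given power. -/
theorem exists_scaled_intertwiner [π.IsIrreducible] (hπ : Spin π) (f : MulAut E) {m : ℕ}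
    (hm : 0 < m) {Y : (Module.End ℂ V)ˣ} (hY : Intertwines π (f ^ m) Y) :
    ∃ X, Intertwines π f X ∧ X ^ m = Y := by
  obtain ⟨X, hX⟩ := exists_intertwiner hE hπ f
  obtain ⟨c, hc⟩ := exists_scalar_of_intertwines (hX.pow m) hY
  obtain ⟨z, hz⟩ := IsAlgClosed.exists_pow_nat_eq (c : ℂ) hm
  have hz0 : z ≠ 0 := by
    rintro rfl
    exact c.ne_zero (by rw [← hz, zero_pow hm.ne'])
  refine ⟨X * Clifford.scalarUnit V (Units.mk0 z hz0), hX.mul_scalar _, ?_⟩
  rw [(show Commute X (Clifford.scalarUnit V (Units.mk0 z hz0)) from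
    (Clifford.scalarUnit_comm _ X).symm).mul_pow, ← map_pow, hc]
  congr 2
  exact Units.ext hz

theorem exists_model : ∃ (n : ℕ) (π : Representation ℂ E (Fin n → ℂ)),
    π.IsIrreducible ∧ Spin π := by
  haveI := Fintype.ofFinite E
  obtain ⟨z, hz, hz1, hzz, hor⟩ := exists_z hE
  have hne : ¬ IsConj z 1 := fun h => hz1 (isConj_one_left.1 h)
  rw [Char.isConj_iff_forall_irr] at hne
  push Not at hne
  obtain ⟨⟨χ, hχ⟩, hne⟩ := hne
  obtain ⟨n, π, hπ, rfl⟩ := hχ
  haveI := hπ
  refine ⟨n, π, hπ, fun c hc hc1 => ?_⟩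
  rw [(hor c hc).resolve_left hc1]
  obtain ⟨a, ha⟩ := CharInt.exists_smul_one_of_mem_center π hz
  have ha2 : (a * a) • (1 : Module.End ℂ (Fin n → ℂ)) = 1 := by
    have h : π z * π z = 1 := by rw [← map_mul, hzz, map_one]
    rwa [ha, smul_mul_assoc, one_mul, smul_smul] at h
  have ha1 : a ≠ 1 := fun h => hne (by
    show LinearMap.trace ℂ _ (π z) = LinearMap.trace ℂ _ (π 1)
    rw [ha, h, one_smul, map_one π])
  haveI : Nontrivial (Fin n → ℂ) := Char.nontrivial_of_isIrreducible π
  have h3 : a * a = 1 := smul_left_injective ℂ (one_ne_zero (α := Module.End ℂ (Fin n → ℂ)))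
    (show (a * a) • (1 : Module.End ℂ (Fin n → ℂ)) = (1 : ℂ) • 1 by rw [ha2, one_smul])
  rw [ha, (mul_self_eq_one_iff.1 h3).resolve_left ha1]
  exact neg_one_smul ℂ (1 : Module.End ℂ (Fin n → ℂ))

end Center

section Transfer

variable [Finite E] (hE : IsExtraspecial 2 E)
variable {V₁ : Type} [AddCommGroup V₁] [Module ℂ V₁] [FiniteDimensional ℂ V₁]
variable (π₁ : Representation ℂ E V₁) (π : Representation ℂ E V)

/-- The algebra map from the endomorphisms of an irreducible spin representation. -/
noncomputable def transferLin [Fintype E] : Module.End ℂ V₁ →ₗ[ℂ] Module.End ℂ V where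
  toFun M := (2 * (finrank ℂ V₁ : ℂ))⁻¹ • ∑ x : E, LinearMap.trace ℂ V₁ (M * π₁ x⁻¹) • π x
  map_add' M N := by simp [add_mul, add_smul, Finset.sum_add_distrib]
  map_smul' c M := by
    simp only [smul_mul_assoc, map_smul, RingHom.id_apply, smul_eq_mul, ← smul_smul,
      ← Finset.smul_sum]
    exact smul_comm _ _ _

include hE

theorem transferLin_apply [Fintype E] [π₁.IsIrreducible] (h₁ : Spin π₁) (h : Spin π) (y : E) :
    transferLin π₁ π (π₁ y) = π y := by
  obtain ⟨z, hz, hz1, hsum⟩ := sum_center hE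
    (fun c => LinearMap.trace ℂ V₁ (π₁ c⁻¹) • π (c * y)) fun x hx => by
      rw [trace_eq_zero hE h₁ (fun hc => hx (by simpa using Subgroup.inv_mem _ hc)), zero_smul]
  have he : ∑ x : E, LinearMap.trace ℂ V₁ (π₁ y * π₁ x⁻¹) • π x =
      ∑ c : E, LinearMap.trace ℂ V₁ (π₁ c⁻¹) • π (c * y) := by
    refine (Fintype.sum_equiv (Equiv.mulRight y) _ _ fun c => ?_).symm
    rw [Equiv.coe_mulRight, ← map_mul, mul_inv_rev, mul_inv_cancel_left]
  show (2 * (finrank ℂ V₁ : ℂ))⁻¹ • ∑ x : E, LinearMap.trace ℂ V₁ (π₁ y * π₁ x⁻¹) • π x = π y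
  rw [he, hsum, inv_one, map_one, LinearMap.trace_one, one_mul,
    trace_center hE h₁ (Subgroup.inv_mem _ hz) (inv_ne_one.2 hz1), map_mul π z,
    h z hz hz1, neg_one_mul, neg_smul, smul_neg, neg_neg, ← add_smul, smul_smul, ← two_mul,
    inv_mul_cancel₀ (mul_ne_zero two_ne_zero (finrank_ne_zero hE h₁)), one_smul]

theorem transferLin_mul [Fintype E] [π₁.IsIrreducible] (h₁ : Spin π₁) (h : Spin π)
    (M N : Module.End ℂ V₁) :
    transferLin π₁ π (M * N) = transferLin π₁ π M * transferLin π₁ π N := by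
  have hM : M ∈ Submodule.span ℂ (Set.range fun x : E => π₁ x) := by
    rw [span_eq_top hE h₁]; trivial
  induction hM using Submodule.span_induction with
  | mem a ha =>
    obtain ⟨x, rfl⟩ := ha
    have hN : N ∈ Submodule.span ℂ (Set.range fun x : E => π₁ x) := by
      rw [span_eq_top hE h₁]; trivial
    induction hN using Submodule.span_induction with
    | mem b hb =>
      obtain ⟨y, rfl⟩ := hb
      rw [← map_mul π₁, transferLin_apply hE π₁ π h₁ h, transferLin_apply hE π₁ π h₁ h,
        transferLin_apply hE π₁ π h₁ h, map_mul]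
    | zero => simp
    | add a b _ _ ha hb => simp only [mul_add, map_add, ha, hb]
    | smul c a _ ha => simp only [mul_smul_comm, map_smul, ha]
  | zero => simp
  | add a b _ _ ha hb => simp only [add_mul, map_add, ha, hb]
  | smul c a _ ha => simp only [smul_mul_assoc, map_smul, ha]

omit hE in
theorem inner_transferLin [Fintype E] (M : Module.End ℂ V₁) : Inner π (transferLin π₁ π M) :=
  fun b hb => (Commute.sum_right _ _ _ fun x _ => (hb x).smul_right _).smul_right _

theorem exists_transfer [π₁.IsIrreducible] (h₁ : Spin π₁) (h : Spin π) :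
    ∃ φ : Module.End ℂ V₁ →* Module.End ℂ V, (∀ y, φ (π₁ y) = π y) ∧ ∀ M, Inner π (φ M) := by
  haveI := Fintype.ofFinite E
  refine ⟨{ toFun := transferLin π₁ π, map_one' := ?_, map_mul' := transferLin_mul hE π₁ π h₁ h },
    transferLin_apply hE π₁ π h₁ h, inner_transferLin π₁ π⟩
  rw [← map_one π₁, transferLin_apply hE π₁ π h₁ h, map_one]

omit π₁ π in
/-- It is enough to lift in irreducible spin representations. -/
theorem hasLift_of_model (σ : S →* MulAut E)
    (hmod : ∀ (W : Type) [AddCommGroup W] [Module ℂ W] [FiniteDimensional ℂ W]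
      (π : Representation ℂ E W) [π.IsIrreducible], Spin π → ∃ P, Lifts π σ P) :
    HasLift σ := by
  intro W _ _ _ π hπ
  obtain ⟨n, π₁, hirr, h₁⟩ := exists_model hE
  haveI := hirr
  obtain ⟨P₁, hP₁⟩ := hmod _ π₁ h₁
  obtain ⟨φ, hφ, hin⟩ := exists_transfer hE π₁ π h₁ hπ
  refine ⟨(Units.map φ).comp P₁, fun s e => Units.ext ?_, fun s => hin _⟩
  have h2 := congrArg (fun X : (Module.End ℂ (Fin n → ℂ))ˣ => φ (X : Module.End ℂ (Fin n → ℂ))) (hP₁ s e)
  simp only [Units.val_mul, map_mul, U_apply, hφ] at h2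
  exact h2

end Transfer

end Cfsg.Agent.SpinExt
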