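import Mathlib
import Cfsg.Agent.Lib.PGroup.ExtraspecialTwoOut
import Cfsg.Agent.Lib.SpinExt.Basic

/-!
# The centre of an odd group of automorphisms on the quadratic space

For coordinates `χ : E → W` of an extraspecial 2-group and a group `K ≤ Aut E` of odd order
without fixed points on `W`:

* `act`: the linear action of `Aut E` on `W`;
* `InZ`: the centre of the algebra spanned by `K`, closed under the adjoint;
* `exists_fpf_aut`: if this centre has no idempotents other than `0`, `1`, there is an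
  automorphism of odd prime order without fixed points on `W`, whose group is normalised by
  everything normalising `K`.
-/

set_option autoImplicit false
set_option linter.style.haveILetI false
set_option linter.unusedSectionVars false

namespace Cfsg.Agent.SpinExt

open Cfsg.Agent.PGroup Cfsg.Agent.PGroup.TwoOut
open scoped commutatorElement IsMulCommutative

universe u

variable {E : Type u} [Group E] [Finite E] {ι : Type} [Fintype ι] [DecidableEq ι]
variable {χ : E →* Multiplicative (ι → ZMod 2)} {q : (ι → ZMod 2) → ZMod 2}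

local notation "W" => (ι → ZMod 2)

/-- The image in the quadratic space. -/
def cls (χ : E →* Multiplicative (ι → ZMod 2)) (a : E) : W := (χ a).toAdd

theorem cls_mul (a b : E) : cls χ (a * b) = cls χ a + cls χ b := by simp [cls]

theorem cls_one : cls χ (1 : E) = 0 := by simp [cls]

theorem cls_inv (a : E) : cls χ a⁻¹ = cls χ a := by
  have h : cls χ a + cls χ a⁻¹ = 0 := by rw [← cls_mul, mul_inv_cancel, cls_one]
  have h2 : ∀ x y : W, x + y = 0 → y = x := fun x y hxy => funext fun i => by
    have := congrFun hxy i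
    revert this
    simp only [Pi.add_apply, Pi.zero_apply]
    generalize x i = u; generalize y i = v; revert u v; decide
  exact h2 _ _ h

/-- The symplectic form. -/
def frm (q : W → ZMod 2) (v w : W) : ZMod 2 := q (v + w) + q v + q w

theorem add_self_vec (v : W) : v + v = 0 := funext fun i => by
  show v i + v i = 0
  generalize v i = u; revert u; decide

theorem add_self_end (x : Module.End (ZMod 2) W) : x + x = 0 :=
  LinearMap.ext fun v => add_self_vec (x v)

variable (h : IsCoord χ q) (hE : IsExtraspecial 2 E)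
include h

theorem cls_eq_zero {a : E} : cls χ a = 0 ↔ a ∈ Subgroup.center E := by
  rw [← h.ker, MonoidHom.mem_ker]
  exact ⟨fun h0 => Multiplicative.toAdd.injective (h0.trans toAdd_one.symm),
    fun h0 => by rw [cls, h0, toAdd_one]⟩

theorem cls_eq_iff {a b : E} : cls χ a = cls χ b ↔ a⁻¹ * b ∈ Subgroup.center E := by
  rw [← cls_eq_zero h, cls_mul, cls_inv]
  constructor
  · intro he; rw [he, add_self_vec]
  · intro he
    have := congrArg (· + cls χ b) he
    simpa [add_assoc, add_self_vec] using this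

/-- A section of the coordinates. -/
noncomputable def sec (v : W) : E := (h.surj (Multiplicative.ofAdd v)).choose

theorem cls_sec (v : W) : cls χ (sec h v) = v := by
  rw [cls, sec, (h.surj (Multiplicative.ofAdd v)).choose_spec, toAdd_ofAdd]

theorem q_cls (a : E) : q (cls χ a) = bit (a ^ 2) := h.sq a

theorem q_zero : q 0 = 0 := by
  rw [← cls_one (χ := χ), q_cls h, one_pow, bit_one]

include hE

theorem frm_cls (a b : E) : frm q (cls χ a) (cls χ b) = bit ⁅b, a⁆ := (h.comm hE a b).symm

theorem frm_add_left (u v w : W) : frm q (u + v) w = frm q u w + frm q v w := by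
  rw [← cls_sec h u, ← cls_sec h v, ← cls_sec h w, ← cls_mul, frm_cls h hE, frm_cls h hE,
    frm_cls h hE, commutator_mul_right (commutator_mem hE _ _),
    bit_mul hE (commutator_mem hE _ _) (commutator_mem hE _ _)]

omit hE in
theorem frm_comm (v w : W) : frm q v w = frm q w v := by
  rw [frm, frm, add_comm v w]; ring

theorem frm_add_right (u v w : W) : frm q u (v + w) = frm q u v + frm q u w := by
  rw [frm_comm h, frm_add_left h hE, frm_comm h v, frm_comm h w]

theorem frm_zero_left (v : W) : frm q 0 v = 0 := by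
  have := frm_add_left h hE 0 0 v
  rw [add_zero] at this
  exact left_eq_add.1 this

theorem frm_smul_left (c : ZMod 2) (v w : W) : frm q (c • v) w = c * frm q v w := by
  rcases (show c = 0 ∨ c = 1 by revert c; decide) with rfl | rfl
  · rw [zero_smul, frm_zero_left h hE, zero_mul]
  · rw [one_smul, one_mul]

theorem frm_eq_zero_iff_commute {a b : E} : frm q (cls χ a) (cls χ b) = 0 ↔ a * b = b * a := by
  rw [frm_cls h hE]
  constructor
  · intro h0
    have := bit_inj hE (commutator_mem hE b a) (Subgroup.one_mem _) (h0.trans bit_one.symm)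
    exact (commutatorElement_eq_one_iff_mul_comm.1 this).symm
  · intro h0
    rw [commutatorElement_eq_one_iff_mul_comm.2 h0.symm, bit_one]

theorem frm_nondeg {v : W} (hv : ∀ w, frm q v w = 0) : v = 0 := by
  rw [← cls_sec h v, cls_eq_zero h, Subgroup.mem_center_iff]
  intro g
  refine ((frm_eq_zero_iff_commute h hE).1 ?_).symm
  rw [cls_sec h]
  exact hv _

omit hE in
theorem q_add (v w : W) : q (v + w) = q v + q w + frm q v w := by
  rw [frm]
  generalize q (v + w) = a; generalize q v = b; generalize q w = c; revert a b c; decide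

/-- The linear action of an automorphism. -/
noncomputable def act (f : MulAut E) : Module.End (ZMod 2) W :=
  (AddMonoidHom.mk' (fun v => cls χ (f (sec h v))) fun v w => by
    have h1 : cls χ (f (sec h (v + w))) = cls χ (f (sec h v * sec h w)) := by
      rw [cls_eq_iff h, ← map_inv, ← map_mul]
      have h2 : (sec h (v + w))⁻¹ * (sec h v * sec h w) ∈ Subgroup.center E := by
        rw [← cls_eq_iff h, cls_mul, cls_sec h, cls_sec h, cls_sec h]
      rw [aut_apply_center hE f h2]
      exact h2
    rw [h1, map_mul, cls_mul]).toZModLinearMap 2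

theorem act_cls (f : MulAut E) (a : E) : act h hE f (cls χ a) = cls χ (f a) := by
  show cls χ (f (sec h (cls χ a))) = cls χ (f a)
  rw [cls_eq_iff h, ← map_inv, ← map_mul]
  have h2 : (sec h (cls χ a))⁻¹ * a ∈ Subgroup.center E := by rw [← cls_eq_iff h, cls_sec h]
  rw [aut_apply_center hE f h2]
  exact h2

theorem act_one : act h hE 1 = 1 := LinearMap.ext fun v => by
  rw [← cls_sec h v, act_cls, MulAut.one_apply, Module.End.one_apply]

theorem act_mul (f g : MulAut E) : act h hE (f * g) = act h hE f * act h hE g :=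
  LinearMap.ext fun v => by
    rw [← cls_sec h v, act_cls, Module.End.mul_apply, act_cls, act_cls, MulAut.mul_apply]

theorem q_act (f : MulAut E) (v : W) : q (act h hE f v) = q v := by
  rw [← cls_sec h v, act_cls, q_cls h, q_cls h, ← map_pow, bit_map]

theorem frm_act (f : MulAut E) (v w : W) : frm q (act h hE f v) (act h hE f w) = frm q v w := by
  simp only [frm, ← map_add, q_act]

theorem act_inv_act (f : MulAut E) (v : W) : act h hE f⁻¹ (act h hE f v) = v := by
  rw [← Module.End.mul_apply, ← act_mul, inv_mul_cancel, act_one, Module.End.one_apply]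

theorem act_act_inv (f : MulAut E) (v : W) : act h hE f (act h hE f⁻¹ v) = v := by
  rw [← Module.End.mul_apply, ← act_mul, mul_inv_cancel, act_one, Module.End.one_apply]

/-- `y` is adjoint to `x`. -/
def Adj (q : W → ZMod 2) (x y : Module.End (ZMod 2) W) : Prop :=
  ∀ v w, frm q (x v) w = frm q v (y w)

theorem adj_act (f : MulAut E) : Adj q (act h hE f) (act h hE f⁻¹) := fun v w => by
  conv_lhs => rw [← act_act_inv h hE f w]
  rw [frm_act]

theorem adj_add {x y x' y' : Module.End (ZMod 2) W} (h1 : Adj q x x') (h2 : Adj q y y') :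
    Adj q (x + y) (x' + y') := fun v w => by
  rw [LinearMap.add_apply, LinearMap.add_apply, frm_add_left h hE, frm_add_right h hE, h1, h2]

theorem adj_symm {x y : Module.End (ZMod 2) W} (h1 : Adj q x y) : Adj q y x := fun v w => by
  rw [frm_comm h, ← h1, frm_comm h]

omit hE in
theorem adj_mul {x y x' y' : Module.End (ZMod 2) W} (h1 : Adj q x x') (h2 : Adj q y y') :
    Adj q (x * y) (y' * x') := fun v w => by
  rw [Module.End.mul_apply, Module.End.mul_apply, h1, h2]

omit hE in
theorem adj_one : Adj q (1 : Module.End (ZMod 2) W) 1 := fun _ _ => rfl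

omit hE in
theorem adj_pow {x y : Module.End (ZMod 2) W} (h1 : Adj q x y) (n : ℕ) :
    Adj q (x ^ n) (y ^ n) := by
  induction n with
  | zero => exact adj_one h
  | succ n ih => rw [pow_succ, pow_succ']; exact adj_mul h ih h1

theorem adj_zero : Adj q (0 : Module.End (ZMod 2) W) 0 := fun v w => by
  rw [LinearMap.zero_apply, LinearMap.zero_apply, frm_zero_left h hE, frm_comm h,
    frm_zero_left h hE]

theorem adj_unique {x y y' : Module.End (ZMod 2) W} (h1 : Adj q x y) (h2 : Adj q x y') :
    y = y' := LinearMap.ext fun w => by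
  have h0 : y w + y' w = 0 := frm_nondeg h hE fun v => by
    rw [frm_comm h, frm_add_right h hE, ← h1, ← h2]
    exact ZModModule.add_self _
  have := congrArg (· + y' w) h0
  simpa [add_assoc, add_self_vec] using this

variable (K : Subgroup (MulAut E))

/-- The algebra spanned by `K`. -/
noncomputable def alg : Submodule (ZMod 2) (Module.End (ZMod 2) W) :=
  Submodule.span (ZMod 2) (Set.range fun k : K => act h hE (k : MulAut E))

/-- The centre of the algebra spanned by `K`. -/
def InZ (x : Module.End (ZMod 2) W) : Prop :=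
  x ∈ alg h hE K ∧ ∀ k : K, Commute x (act h hE (k : MulAut E))

theorem alg_mul {x y : Module.End (ZMod 2) W} (hx : x ∈ alg h hE K) (hy : y ∈ alg h hE K) :
    x * y ∈ alg h hE K := by
  induction hx using Submodule.span_induction with
  | mem a ha =>
    obtain ⟨k, rfl⟩ := ha
    induction hy using Submodule.span_induction with
    | mem b hb =>
      obtain ⟨l, rfl⟩ := hb
      rw [← act_mul]
      exact Submodule.subset_span ⟨k * l, rfl⟩
    | zero => simp
    | add a b _ _ ha hb => rw [mul_add]; exact Submodule.add_mem _ ha hb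
    | smul c a _ ha => rw [mul_smul_comm]; exact Submodule.smul_mem _ c ha
  | zero => simp
  | add a b _ _ ha hb => rw [add_mul]; exact Submodule.add_mem _ ha hb
  | smul c a _ ha => rw [smul_mul_assoc]; exact Submodule.smul_mem _ c ha

theorem inZ_commute {x y : Module.End (ZMod 2) W} (hx : InZ h hE K x) (hy : y ∈ alg h hE K) :
    Commute x y := by
  induction hy using Submodule.span_induction with
  | mem a ha => obtain ⟨k, rfl⟩ := ha; exact hx.2 k
  | zero => exact Commute.zero_right x
  | add a b _ _ ha hb => exact ha.add_right hb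
  | smul c a _ ha => exact ha.smul_right c

theorem inZ_one : InZ h hE K 1 :=
  ⟨(act_one h hE) ▸ Submodule.subset_span ⟨1, rfl⟩, fun _ => Commute.one_left _⟩

theorem inZ_zero : InZ h hE K 0 := ⟨Submodule.zero_mem _, fun _ => Commute.zero_left _⟩

theorem inZ_add {x y : Module.End (ZMod 2) W} (hx : InZ h hE K x) (hy : InZ h hE K y) :
    InZ h hE K (x + y) :=
  ⟨Submodule.add_mem _ hx.1 hy.1, fun k => (hx.2 k).add_left (hy.2 k)⟩

theorem inZ_mul {x y : Module.End (ZMod 2) W} (hx : InZ h hE K x) (hy : InZ h hE K y) :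
    InZ h hE K (x * y) :=
  ⟨alg_mul h hE K hx.1 hy.1, fun k => (hx.2 k).mul_left (hy.2 k)⟩

theorem inZ_pow {x : Module.End (ZMod 2) W} (hx : InZ h hE K x) (n : ℕ) : InZ h hE K (x ^ n) := by
  induction n with
  | zero => exact inZ_one h hE K
  | succ n ih => rw [pow_succ]; exact inZ_mul h hE K ih hx

theorem exists_adj {x : Module.End (ZMod 2) W} (hx : InZ h hE K x) :
    ∃ y, InZ h hE K y ∧ Adj q x y := by
  have h1 : ∀ z ∈ alg h hE K, ∃ y ∈ alg h hE K, Adj q z y := by
    intro z hz
    induction hz using Submodule.span_induction with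
    | mem a ha =>
      obtain ⟨k, rfl⟩ := ha
      exact ⟨_, Submodule.subset_span ⟨k⁻¹, rfl⟩, adj_act h hE (k : MulAut E)⟩
    | zero => exact ⟨0, Submodule.zero_mem _, adj_zero h hE⟩
    | add a b _ _ ha hb =>
      obtain ⟨a', ha', ha''⟩ := ha
      obtain ⟨b', hb', hb''⟩ := hb
      exact ⟨a' + b', Submodule.add_mem _ ha' hb', adj_add h hE ha'' hb''⟩
    | smul c a _ ha =>
      obtain ⟨a', ha', ha''⟩ := ha
      rcases (show c = 0 ∨ c = 1 by revert c; decide) with rfl | rfl
      · exact ⟨0, Submodule.zero_mem _, by rw [zero_smul]; exact adj_zero h hE⟩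
      · exact ⟨a', ha', by rwa [one_smul]⟩
  obtain ⟨y, hy, hxy⟩ := h1 x hx.1
  refine ⟨y, ⟨hy, fun k => ?_⟩, hxy⟩
  have h2 := adj_mul h hxy (adj_act h hE ((k⁻¹ : K) : MulAut E))
  have h3 := adj_mul h (adj_act h hE ((k⁻¹ : K) : MulAut E)) hxy
  rw [← (hx.2 k⁻¹).eq] at h3
  have h4 := adj_unique h hE h3 h2
  simpa [Commute, SemiconjBy] using h4

/-- Conjugation by something normalising `K`. -/
noncomputable def conjEnd (f : MulAut E) (x : Module.End (ZMod 2) W) : Module.End (ZMod 2) W :=
  act h hE f * x * act h hE f⁻¹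

theorem conjEnd_mul (f : MulAut E) (x y : Module.End (ZMod 2) W) :
    conjEnd h hE f (x * y) = conjEnd h hE f x * conjEnd h hE f y := by
  simp only [conjEnd, mul_assoc]
  rw [← mul_assoc (act h hE f⁻¹) (act h hE f), ← act_mul, inv_mul_cancel, act_one, one_mul]

theorem conjEnd_add (f : MulAut E) (x y : Module.End (ZMod 2) W) :
    conjEnd h hE f (x + y) = conjEnd h hE f x + conjEnd h hE f y := by
  simp only [conjEnd, mul_add, add_mul]

theorem conjEnd_conjEnd (f g : MulAut E) (x : Module.End (ZMod 2) W) :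
    conjEnd h hE f (conjEnd h hE g x) = conjEnd h hE (f * g) x := by
  simp only [conjEnd, mul_inv_rev, act_mul, mul_assoc]

theorem conjEnd_one (x : Module.End (ZMod 2) W) : conjEnd h hE 1 x = x := by
  simp [conjEnd, act_one]

theorem conjEnd_one' (f : MulAut E) : conjEnd h hE f 1 = 1 := by
  rw [conjEnd, mul_one, ← act_mul, mul_inv_cancel, act_one]

theorem adj_conjEnd (f : MulAut E) {x y : Module.End (ZMod 2) W} (h1 : Adj q x y) :
    Adj q (conjEnd h hE f x) (conjEnd h hE f y) := by
  have := adj_mul h (adj_mul h (adj_act h hE f) h1) (adj_act h hE f⁻¹)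
  simpa [conjEnd, mul_assoc] using this

theorem inZ_conjEnd {f : MulAut E} (hf : ∀ k ∈ K, f * k * f⁻¹ ∈ K)
    (hf' : ∀ k ∈ K, f⁻¹ * k * f ∈ K) {x : Module.End (ZMod 2) W} (hx : InZ h hE K x) :
    InZ h hE K (conjEnd h hE f x) := by
  refine ⟨?_, fun k => ?_⟩
  · have : ∀ z ∈ alg h hE K, conjEnd h hE f z ∈ alg h hE K := by
      intro z hz
      induction hz using Submodule.span_induction with
      | mem a ha =>
        obtain ⟨k, rfl⟩ := ha
        simp only [conjEnd, ← act_mul]
        exact Submodule.subset_span ⟨⟨_, hf k k.2⟩, rfl⟩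
      | zero => simp [conjEnd]
      | add a b _ _ ha hb => rw [conjEnd_add]; exact Submodule.add_mem _ ha hb
      | smul c a _ ha =>
        simp only [conjEnd, mul_smul_comm, smul_mul_assoc]
        exact Submodule.smul_mem _ c ha
    exact this x hx.1
  · have h1 := (hx.2 ⟨_, hf' k k.2⟩).eq
    have h2 := congrArg (conjEnd h hE f) h1
    rw [conjEnd_mul, conjEnd_mul] at h2
    have h3 : conjEnd h hE f (act h hE (f⁻¹ * (k : MulAut E) * f)) = act h hE (k : MulAut E) := by
      rw [conjEnd, ← act_mul, ← act_mul]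
      congr 1
      group
    rw [h3] at h2
    exact h2

variable (hodd : Odd (Nat.card K))
  (hfix : ∀ e, (∀ k ∈ K, k e * e⁻¹ ∈ Subgroup.center E) → e ∈ Subgroup.center E)
include hfix

theorem eq_zero_of_fixed {v : W} (hv : ∀ k : K, act h hE (k : MulAut E) v = v) : v = 0 := by
  rw [← cls_sec h v, cls_eq_zero h]
  refine hfix _ fun k hk => ?_
  rw [← cls_eq_zero h, cls_mul, cls_inv, ← act_cls h hE, cls_sec h, hv ⟨k, hk⟩, add_self_vec]

theorem sum_act_eq_zero [Fintype K] : ∑ k : K, act h hE (k : MulAut E) = 0 :=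
  LinearMap.ext fun v => eq_zero_of_fixed h hE K hfix fun l => by
    rw [LinearMap.sum_apply, map_sum]
    refine Fintype.sum_equiv (Equiv.mulLeft l) _ _ fun k => ?_
    rw [Equiv.coe_mulLeft, Subgroup.coe_mul, act_mul, Module.End.mul_apply]

include hodd

/-- An invariant additive functional vanishes. -/
theorem functional_eq_zero (φ : W →+ ZMod 2)
    (hφ : ∀ (k : K) v, φ (act h hE (k : MulAut E) v) = φ v) (v : W) : φ v = 0 := by
  haveI := Fintype.ofFinite K
  have h1 := congrArg (fun T : Module.End (ZMod 2) W => φ (T v)) (sum_act_eq_zero h hE K hfix)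
  simp only [LinearMap.sum_apply, map_sum, hφ, Finset.sum_const, Finset.card_univ,
    ← Nat.card_eq_fintype_card, LinearMap.zero_apply, map_zero, nsmul_eq_mul] at h1
  have h2 : ((Nat.card K : ℕ) : ZMod 2) = 1 := by
    rw [← ZMod.natCast_mod, Nat.odd_iff.1 hodd]; rfl
  rwa [h2, one_mul] at h1

/-- A linear map commuting with `K` and preserving the form preserves `q`. -/
theorem q_of_frm {z : Module.End (ZMod 2) W} (hz : InZ h hE K z)
    (hf : ∀ v w, frm q (z v) (z w) = frm q v w) (v : W) : q (z v) = q v := by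
  let φ : W →+ ZMod 2 := AddMonoidHom.mk' (fun u => q (z u) + q u) fun a b => by
    rw [map_add, q_add h, q_add h a b, hf]
    generalize q (z a) = x; generalize q (z b) = y; generalize q a = x'; generalize q b = y'
    generalize frm q a b = t
    revert x y x' y' t; decide
  have h1 : φ v = 0 := functional_eq_zero h hE K hodd hfix φ (fun k u => by
    show q (z (act h hE k.1 u)) + q (act h hE k.1 u) = q (z u) + q u
    rw [← Module.End.mul_apply, (hz.2 k).eq, Module.End.mul_apply, q_act h hE, q_act h hE]) v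
  have h2 : q (z v) + q v = 0 := h1
  revert h2
  generalize q (z v) = x; generalize q v = y; revert x y; decide

/-- The automorphism inducing a given map and commuting with `K` is unique. -/
theorem aut_unique {a b : MulAut E} (ha : ∀ k ∈ K, Commute k a) (hb : ∀ k ∈ K, Commute k b)
    (hab : act h hE a = act h hE b) : a = b := by
  have hc : ∀ e, (a e)⁻¹ * b e ∈ Subgroup.center E := fun e => by
    rw [← cls_eq_iff h, ← act_cls h hE, ← act_cls h hE, hab]
  have hmul : ∀ x y, (a (x * y))⁻¹ * b (x * y) = ((a x)⁻¹ * b x) * ((a y)⁻¹ * b y) := fun x y => by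
    rw [map_mul, map_mul, mul_inv_rev, ← mul_assoc ((a x)⁻¹ * b x),
      ← Subgroup.mem_center_iff.1 (hc x) (a y)⁻¹]
    simp only [mul_assoc]
  have hcen : ∀ c ∈ Subgroup.center E, (a c)⁻¹ * b c = 1 := fun c hc' => by
    rw [aut_apply_center hE a hc', aut_apply_center hE b hc', inv_mul_cancel]
  have hwd : ∀ e, (a (sec h (cls χ e)))⁻¹ * b (sec h (cls χ e)) = (a e)⁻¹ * b e := fun e => by
    have h2 : (sec h (cls χ e))⁻¹ * e ∈ Subgroup.center E := by rw [← cls_eq_iff h, cls_sec h]
    have h3 := hmul (sec h (cls χ e)) ((sec h (cls χ e))⁻¹ * e)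
    rw [mul_inv_cancel_left, hcen _ h2, mul_one] at h3
    exact h3.symm
  let φ : W →+ ZMod 2 := AddMonoidHom.mk' (fun u => bit ((a (sec h u))⁻¹ * b (sec h u))) fun u v => by
    have : sec h u * sec h v = sec h u * sec h v := rfl
    rw [← bit_mul hE (hc _) (hc _), ← hmul, ← hwd (sec h u * sec h v), cls_mul, cls_sec h,
      cls_sec h]
  refine MulEquiv.ext fun e => ?_
  have h1 : φ (cls χ e) = 0 := functional_eq_zero h hE K hodd hfix φ (fun k u => by
    show bit ((a (sec h (act h hE k.1 u)))⁻¹ * b (sec h (act h hE k.1 u))) = _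
    have e1 : act h hE k.1 u = cls χ (k.1 (sec h u)) := by
      rw [← act_cls h hE k.1 (sec h u), cls_sec h]
    rw [e1, hwd]
    have e2 : ∀ f : MulAut E, Commute k.1 f → f (k.1 (sec h u)) = k.1 (f (sec h u)) := fun f hf =>
      (MulEquiv.congr_fun hf.eq (sec h u)).symm
    rw [e2 a (ha k k.2), e2 b (hb k k.2), ← map_inv, ← map_mul, bit_map]
    rfl) _
  have h4 : bit ((a e)⁻¹ * b e) = 0 := by rw [← hwd]; exact h1
  exact inv_mul_eq_one.1 (bit_inj hE (hc e) (Subgroup.one_mem _) (h4.trans bit_one.symm))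

/-- An element of the centre preserving the form lifts to an automorphism commuting with `K`. -/
theorem exists_lift_commute {z z' : Module.End (ZMod 2) W} (hz : InZ h hE K z)
    (hzz : z * z' = 1) (hz'z : z' * z = 1) (hf : ∀ v w, frm q (z v) (z w) = frm q v w) :
    ∃ a : MulAut E, (∀ k ∈ K, Commute k a) ∧ act h hE a = z := by
  classical
  haveI := Fintype.ofFinite K
  let M : GL ι (ZMod 2) := ⟨LinearMap.toMatrix' z, LinearMap.toMatrix' z',
    by rw [← LinearMap.toMatrix'_mul, hzz, LinearMap.toMatrix'_one],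
    by rw [← LinearMap.toMatrix'_mul, hz'z, LinearMap.toMatrix'_one]⟩
  have hM : ∀ v, (M : Matrix ι ι (ZMod 2)).mulVec v = z v := fun v =>
    LinearMap.toMatrix'_mulVec z v
  obtain ⟨f, hfl⟩ := h.exists_lift hE M fun v => by
    rw [hM]; exact q_of_frm h hE K hodd hfix hz hf v
  have hfc : ∀ e, cls χ (f e) = z (cls χ e) := fun e => (hfl e).trans (hM _)
  let g : K → E → E := fun k e => (k : MulAut E) (f ((k : MulAut E)⁻¹ e))
  have hgc : ∀ k e, (f e)⁻¹ * g k e ∈ Subgroup.center E := fun k e => by
    rw [← cls_eq_iff h, hfc]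
    show z (cls χ e) = cls χ ((k : MulAut E) (f ((k : MulAut E)⁻¹ e)))
    rw [← act_cls h hE, hfc, ← act_cls h hE, ← Module.End.mul_apply (act h hE (k : MulAut E)),
      ← (hz.2 k).eq, Module.End.mul_apply, act_act_inv]
  let c : K → E → Subgroup.center E := fun k e => ⟨_, hgc k e⟩
  let a₀ : E → E := fun e => f e * ((∏ k : K, c k e : Subgroup.center E) : E)
  have hcmul : ∀ k x y, c k (x * y) = c k x * c k y := fun k x y => Subtype.ext (by
    show (f (x * y))⁻¹ * g k (x * y) = (f x)⁻¹ * g k x * ((f y)⁻¹ * g k y)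
    simp only [g, map_mul, mul_inv_rev]
    rw [← mul_assoc ((f x)⁻¹ * (k : MulAut E) (f ((k : MulAut E)⁻¹ x))),
      ← Subgroup.mem_center_iff.1 (hgc k x) (f y)⁻¹]
    simp only [g, mul_assoc])
  have hccls : ∀ e, cls χ ((∏ k : K, c k e : Subgroup.center E) : E) = 0 := fun e =>
    (cls_eq_zero h).2 (SetLike.coe_mem _)
  have ha₀mul : ∀ x y, a₀ (x * y) = a₀ x * a₀ y := fun x y => by
    show f (x * y) * _ = f x * _ * (f y * _)
    rw [Finset.prod_congr rfl fun k _ => hcmul k x y, Finset.prod_mul_distrib, Subgroup.coe_mul,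
      map_mul, mul_assoc (f x) _ (f y * _), ← mul_assoc _ (f y),
      ← Subgroup.mem_center_iff.1 (SetLike.coe_mem (∏ k : K, c k x)) (f y)]
    simp only [mul_assoc]
  let A : E →* E := MonoidHom.mk' a₀ ha₀mul
  have hAcls : ∀ e, cls χ (A e) = z (cls χ e) := fun e => by
    show cls χ (f e * _) = _
    rw [cls_mul, hccls, add_zero, hfc]
  have hinj : Function.Injective A := (injective_iff_map_eq_one A).2 fun e he => by
    have h1 : z (cls χ e) = 0 := by rw [← hAcls, he, cls_one]
    have h2 := congrArg z' h1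
    rw [← Module.End.mul_apply, hz'z, Module.End.one_apply, map_zero, cls_eq_zero h] at h2
    have h3 : ∀ k, c k e = 1 := fun k => Subtype.ext (by
      show (f e)⁻¹ * (k : MulAut E) (f ((k : MulAut E)⁻¹ e)) = 1
      simp [aut_apply_center hE _ h2])
    have h4 : f e * ((∏ k : K, c k e : Subgroup.center E) : E) = 1 := he
    rw [Finset.prod_eq_one fun k _ => h3 k, Subgroup.coe_one, mul_one,
      aut_apply_center hE f h2] at h4
    exact h4
  let a : MulAut E := MulEquiv.ofBijective A (Finite.injective_iff_bijective.1 hinj)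
  refine ⟨a, fun j hj => MulEquiv.ext fun e => ?_, LinearMap.ext fun v => ?_⟩
  · show j (A e) = A (j e)
    set J : K := ⟨j, hj⟩
    let d : Subgroup.center E := ⟨(f (j e))⁻¹ * j (f e), by
      rw [← cls_eq_iff h, hfc, ← act_cls h hE, ← act_cls h hE, hfc, ← Module.End.mul_apply,
        (hz.2 J).eq, Module.End.mul_apply]⟩
    have hk : ∀ k : K, c (J * k) (j e) = d * c k e := fun k => Subtype.ext (by
      show (f (j e))⁻¹ * g (J * k) (j e) = (f (j e))⁻¹ * j (f e) * ((f e)⁻¹ * g k e)
      have h1 : g (J * k) (j e) = j (g k e) := by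
        simp only [g, J, Subgroup.coe_mul, mul_inv_rev, MulAut.mul_apply, MulAut.inv_apply_self]
      have h2 : j ((f e)⁻¹ * g k e) = (f e)⁻¹ * g k e := aut_apply_center hE j (hgc k e)
      conv_rhs => rw [← h2, map_mul, map_inv, ← mul_assoc, mul_inv_cancel_right]
      rw [h1])
    have hprod : ∏ k : K, c k (j e) = d * ∏ k : K, c k e := by
      rw [← Fintype.prod_equiv (Equiv.mulLeft J) (fun k => c (J * k) (j e)) (fun k => c k (j e))
        fun k => rfl, Finset.prod_congr rfl fun k _ => hk k, Finset.prod_mul_distrib,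
        Finset.prod_const, Finset.card_univ, ← Nat.card_eq_fintype_card]
      congr 1
      obtain ⟨t, ht⟩ := hodd
      have hd2 : d ^ 2 = 1 := Subtype.ext (by
        rw [Subgroup.coe_pow, Subgroup.coe_one]
        haveI : Fact (Nat.Prime 2) := ⟨Nat.prime_two⟩
        exact special_center_pow hE.1 d.2)
      rw [ht, pow_succ, pow_mul, hd2, one_pow, one_mul]
    show j (f e * _) = f (j e) * _
    rw [map_mul, aut_apply_center hE j (SetLike.coe_mem _), hprod, Subgroup.coe_mul,
      ← mul_assoc]
    congr 1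
    show j (f e) = f (j e) * ((f (j e))⁻¹ * j (f e))
    rw [mul_inv_cancel_left]
  · rw [← cls_sec h v, act_cls]
    exact hAcls _

/-- Half of the non-trivial elements, closed under conjugation. -/
theorem exists_half [Fintype K] : ∃ Y Y' : Module.End (ZMod 2) W,
    InZ h hE K Y ∧ Adj q Y Y' ∧ Y' = 1 + Y := by
  classical
  haveI := Fintype.ofFinite (ConjClasses K)
  let num := Fintype.equivFin (ConjClasses K)
  have hreal : ∀ k : K, ConjClasses.mk k = ConjClasses.mk k⁻¹ → k = 1 := by
    intro k hk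
    obtain ⟨g, hg⟩ := isConj_iff.1 (ConjClasses.mk_eq_mk_iff_isConj.1 hk)
    have h2 : Commute (g ^ 2) k := by
      have h3 : g * k⁻¹ * g⁻¹ = k := by
        have := congrArg (·⁻¹) hg
        simpa [mul_assoc] using this
      have h4 : g * (g * k * g⁻¹) * g⁻¹ = k := by rw [hg]; exact h3
      show g ^ 2 * k = k * g ^ 2
      conv_rhs => rw [← h4]
      rw [sq]
      group
    obtain ⟨t, ht⟩ := hodd
    have hg' : g = (g ^ 2) ^ (t + 1) := by
      rw [← pow_mul, show 2 * (t + 1) = Nat.card K + 1 by omega, pow_succ, pow_card_eq_one',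
        one_mul]
    have h5 : Commute g k := hg' ▸ h2.pow_left (t + 1)
    rw [h5.eq, mul_inv_cancel_right] at hg
    have hk2 : k ^ 2 = 1 := by rw [sq]; nth_rewrite 1 [hg]; exact inv_mul_cancel k
    have hodd' : Odd (orderOf k) := Odd.of_dvd_nat ⟨t, ht⟩ (orderOf_dvd_natCard k)
    have hd := Nat.le_of_dvd two_pos (orderOf_dvd_of_pow_eq_one hk2)
    obtain ⟨s, hs⟩ := hodd'
    exact orderOf_eq_one_iff.1 (by omega)
  let H := Finset.univ.filter fun k : K => num (ConjClasses.mk k) < num (ConjClasses.mk k⁻¹)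
  let H' := Finset.univ.filter fun k : K => num (ConjClasses.mk k⁻¹) < num (ConjClasses.mk k)
  let Y := ∑ k ∈ H, act h hE (k : MulAut E)
  let Y' := ∑ k ∈ H, act h hE ((k⁻¹ : K) : MulAut E)
  have hYeq : Y' = ∑ k ∈ H', act h hE (k : MulAut E) :=
    Finset.sum_bij' (fun k _ => k⁻¹) (fun k _ => k⁻¹)
      (fun k hk => Finset.mem_filter.2 ⟨Finset.mem_univ _, by
        rw [inv_inv]; exact (Finset.mem_filter.1 hk).2⟩)
      (fun k hk => Finset.mem_filter.2 ⟨Finset.mem_univ _, by
        rw [inv_inv]; exact (Finset.mem_filter.1 hk).2⟩)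
      (fun k _ => inv_inv k) (fun k _ => inv_inv k) (fun k _ => rfl)
  have hsum : 1 + Y + Y' = 0 := by
    rw [← sum_act_eq_zero h hE K hfix, hYeq, add_assoc,
      ← Finset.add_sum_erase _ _ (Finset.mem_univ (1 : K)),
      show act h hE ((1 : K) : MulAut E) = 1 from act_one h hE]
    congr 1
    have hdisj : Disjoint H H' := Finset.disjoint_filter.2 fun k _ h1 h2 => absurd h1 h2.asymm
    rw [← Finset.sum_union hdisj]
    refine Finset.sum_congr ?_ fun _ _ => rfl
    ext k
    simp only [H, H', Finset.mem_union, Finset.mem_filter, Finset.mem_univ, true_and,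
      Finset.mem_erase, and_true]
    refine ⟨?_, fun hk => ?_⟩
    · rintro h1 rfl
      rw [inv_one] at h1
      exact h1.elim (lt_irrefl _) (lt_irrefl _)
    · exact lt_or_gt_of_ne fun h1 => hk (hreal k (num.injective h1))
  have hconj : ∀ l : K, Commute Y (act h hE (l : MulAut E)) := fun l => by
    show Y * _ = _ * Y
    simp only [Y, Finset.sum_mul, Finset.mul_sum, ← act_mul]
    have hcc : ∀ a x : K, ConjClasses.mk (a * x * a⁻¹) = ConjClasses.mk x := fun a x =>
      ConjClasses.mk_eq_mk_iff_isConj.2 (IsConj.symm (isConj_iff.2 ⟨a, rfl⟩))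
    refine Finset.sum_bij' (fun k _ => l⁻¹ * k * l) (fun k _ => l * k * l⁻¹)
      (fun k hk => ?_) (fun k hk => ?_) (fun k _ => by group) (fun k _ => by group)
      (fun k _ => by simp [mul_assoc])
    · refine Finset.mem_filter.2 ⟨Finset.mem_univ _, ?_⟩
      have e1 : (l⁻¹ * k * l)⁻¹ = l⁻¹ * k⁻¹ * (l⁻¹)⁻¹ := by group
      have e2 : l⁻¹ * k * l = l⁻¹ * k * (l⁻¹)⁻¹ := by group
      rw [e1, e2, hcc, hcc]
      exact (Finset.mem_filter.1 hk).2
    · refine Finset.mem_filter.2 ⟨Finset.mem_univ _, ?_⟩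
      have e1 : (l * k * l⁻¹)⁻¹ = l * k⁻¹ * l⁻¹ := by group
      rw [e1, hcc, hcc]
      exact (Finset.mem_filter.1 hk).2
  refine ⟨Y, Y', ⟨Submodule.sum_mem _ fun k _ => Submodule.subset_span ⟨k, rfl⟩, hconj⟩, ?_, ?_⟩
  · have : ∀ s : Finset K, Adj q (∑ k ∈ s, act h hE (k : MulAut E))
        (∑ k ∈ s, act h hE ((k⁻¹ : K) : MulAut E)) := by
      intro s
      induction s using Finset.induction_on with
      | empty => simpa using adj_zero h hE
      | @insert a s has ih =>
        rw [Finset.sum_insert has, Finset.sum_insert has]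
        exact adj_add h hE (adj_act h hE (a : MulAut E)) ih
    exact this H
  · have := congrArg (· + (1 + Y)) hsum
    simp only [zero_add] at this
    rwa [add_comm (1 + Y) Y', add_assoc, add_self_end, add_zero] at this

omit h hE hodd hfix in
theorem one_add_pow_two (x : Module.End (ZMod 2) W) (n : ℕ) :
    (1 + x) ^ 2 ^ n = 1 + x ^ 2 ^ n := by
  induction n with
  | zero => simp
  | succ n ih =>
    rw [pow_succ, pow_mul, pow_mul, ih, sq, sq, add_mul, mul_add, mul_add, one_mul, one_mul,
      mul_one]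
    have := add_self_end (x ^ 2 ^ n)
    rw [← add_assoc, add_assoc (1 : Module.End (ZMod 2) W), this, add_zero]

omit h hE hodd hfix in
theorem exists_pow_idempotent (x : Module.End (ZMod 2) W) :
    ∃ N : ℕ, 0 < N ∧ x ^ N * x ^ N = x ^ N := by
  haveI : Finite (Module.End (ZMod 2) W) := Module.finite_of_finite (ZMod 2)
  obtain ⟨i, j, hne, hij⟩ := Finite.exists_ne_map_eq_of_infinite (fun n : ℕ => x ^ n)
  wlog hlt : i < j generalizing i j
  · exact this j i hne.symm hij.symm (lt_of_le_of_ne (not_lt.1 hlt) hne.symm)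
  obtain ⟨d, hd, rfl⟩ : ∃ d, 0 < d ∧ j = i + d := ⟨j - i, by omega, by omega⟩
  have hper : ∀ m, i ≤ m → ∀ t, x ^ (m + t * d) = x ^ m := by
    intro m hm t
    induction t with
    | zero => simp
    | succ t ih =>
      rw [show m + (t + 1) * d = (i + d) + (m + t * d - i) by rw [add_mul]; omega, pow_add, ← hij,
        ← pow_add, show i + (m + t * d - i) = m + t * d by omega, ih]
  refine ⟨d * (i + 1), by positivity, ?_⟩
  rw [← pow_add]
  conv_lhs => arg 2; arg 2; rw [mul_comm d]
  exact hper _ (by nlinarith) (i + 1)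

/-- Without non-trivial idempotents in the centre there is a fixed-point-free automorphism. -/
theorem exists_fpf_aut [Nontrivial W]
    (hloc : ∀ e, InZ h hE K e → e * e = e → e = 0 ∨ e = 1) :
    ∃ (r : ℕ) (a : MulAut E), r.Prime ∧ r ≠ 2 ∧ orderOf a = r ∧
      (∀ e, a e * e⁻¹ ∈ Subgroup.center E → e ∈ Subgroup.center E) ∧
      ∀ f : MulAut E, (∀ k ∈ K, f * k * f⁻¹ ∈ K) → (∀ k ∈ K, f⁻¹ * k * f ∈ K) →
        f * a * f⁻¹ ∈ Subgroup.zpowers a := by
  classical
  haveI := Fintype.ofFinite K
  have hdich : ∀ x, InZ h hE K x → ∃ N, 0 < N ∧ (x ^ N = 0 ∨ x ^ N = 1) := fun x hx => by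
    obtain ⟨N, hN, hNe⟩ := exists_pow_idempotent x
    exact ⟨N, hN, hloc _ (inZ_pow h hE K hx N) hNe⟩
  have h10 : (1 : Module.End (ZMod 2) W) ≠ 0 := one_ne_zero
  obtain ⟨Y, Y', hY, hadj, hY'⟩ := exists_half h hE K hodd hfix
  obtain ⟨N, hN, hYN⟩ := hdich Y hY
  have hYN1 : Y ^ N = 1 := by
    refine hYN.resolve_left fun h0 => h10 ?_
    have h1 : (1 + Y) ^ N = 0 := by
      rw [← hY']
      exact adj_unique h hE (adj_pow h hadj N) (by rw [h0]; exact adj_zero h hE)
    have h2 := one_add_pow_two Y N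
    have hle : N ≤ 2 ^ N := Nat.lt_two_pow_self.le
    rw [← Nat.add_sub_cancel' hle, pow_add, h1, zero_mul, pow_add, h0, zero_mul, add_zero] at h2
    exact h2.symm
  have hY'N : (1 + Y) ^ N = 1 := by
    rw [← hY']
    exact adj_unique h hE (adj_pow h hadj N) (by rw [hYN1]; exact adj_one h)
  obtain ⟨N', rfl⟩ : ∃ N', N = N' + 1 := ⟨N - 1, by omega⟩
  have hY1 : InZ h hE K (1 + Y) := inZ_add h hE K (inZ_one h hE K) hY
  have hcomm : Commute Y (1 + Y) := inZ_commute h hE K hY hY1.1
  set z₀ := (1 + Y) * Y ^ N' with hz₀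
  set w₀ := Y * (1 + Y) ^ N' with hw₀
  have hz₀Z : InZ h hE K z₀ := inZ_mul h hE K hY1 (inZ_pow h hE K hY N')
  have hadj₀ : Adj q z₀ w₀ := by
    have h1 : Adj q (1 + Y) Y := by rw [← hY']; exact adj_symm h hE hadj
    have h2 := adj_mul h h1 (adj_pow h hadj N')
    rw [hY'] at h2
    rw [hz₀, hw₀, (hcomm.pow_right N').eq]
    exact h2
  have hzw : z₀ * w₀ = 1 := by
    rw [hz₀, hw₀, mul_assoc, ← mul_assoc (Y ^ N'), ← pow_succ, hYN1, one_mul, ← pow_succ']
    exact hY'N
  have hz₀1 : z₀ + 1 = Y ^ N' := by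
    rw [hz₀, add_mul, one_mul, ← pow_succ', hYN1, add_assoc, add_self_end, add_zero]
  have hz₀u : IsUnit (z₀ + 1) := by
    rw [hz₀1]
    exact (IsUnit.of_pow_eq_one hYN1 N'.succ_ne_zero).pow N'
  obtain ⟨M, hM, hzM⟩ := hdich z₀ hz₀Z
  have hzM1 : z₀ ^ M = 1 := by
    refine hzM.resolve_left fun h0 => h10 ?_
    have hc : Commute z₀ w₀ := inZ_commute h hE K hz₀Z
      (inZ_mul h hE K hY (inZ_pow h hE K hY1 N')).1
    have : (z₀ * w₀) ^ M = 0 := by rw [hc.mul_pow, h0, zero_mul]
    rwa [hzw, one_pow] at this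
  have ho : 0 < orderOf z₀ :=
    orderOf_pos_iff.2 (isOfFinOrder_iff_pow_eq_one.2 ⟨M, hM, hzM1⟩)
  obtain ⟨a2, m, hm, hom⟩ := Nat.exists_eq_two_pow_mul_odd ho.ne'
  have hz1 : z₀ ^ 2 ^ a2 ≠ 1 := fun h1 => by
    have h2 : (z₀ + 1) ^ 2 ^ a2 = 0 := by
      rw [add_comm, one_add_pow_two, h1, add_self_end]
    exact not_isUnit_zero (h2 ▸ hz₀u.pow (2 ^ a2))
  have hm1 : m ≠ 1 := fun h1 => hz1 (by rw [h1, mul_one] at hom; rw [← hom, pow_orderOf_eq_one])
  obtain ⟨r, hr, hrm⟩ := Nat.exists_prime_and_dvd hm1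
  have hr2 : r ≠ 2 := fun h2 => (Nat.not_even_iff_odd.2 hm) (even_iff_two_dvd.2 (h2 ▸ hrm))
  have hrodd : Odd r := hr.odd_of_ne_two hr2
  have hro : r ∣ orderOf z₀ := hom ▸ hrm.mul_left _
  set z := z₀ ^ (orderOf z₀ / r) with hz
  have hzord : orderOf z = r := by
    rw [hz, orderOf_pow_of_dvd (Nat.div_pos (Nat.le_of_dvd ho hro) hr.pos).ne'
      (Nat.div_dvd_of_dvd hro), Nat.div_div_self hro ho.ne']
  have hzr : z ^ r = 1 := hzord ▸ pow_orderOf_eq_one z
  have hzZ : InZ h hE K z := inZ_pow h hE K hz₀Z _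
  have hnonunit : ∀ u, InZ h hE K u → u ^ r = 1 → u ≠ 1 → IsUnit (u + 1) := fun u hu hur hu1 => by
    obtain ⟨L, hL, hL'⟩ := hdich (u + 1) (inZ_add h hE K hu (inZ_one h hE K))
    rcases hL' with h0 | h1
    · exfalso
      apply hu1
      have h2 : (u + 1) ^ 2 ^ L = 0 := by
        rw [← Nat.add_sub_cancel' (Nat.lt_two_pow_self (n := L)).le, pow_add, h0, zero_mul]
      rw [add_comm, one_add_pow_two] at h2
      have h3 : u ^ 2 ^ L = 1 := by
        have := congrArg (1 + ·) h2
        simpa [← add_assoc, add_self_end] using this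
      rw [← pow_one u, ← Nat.Coprime.gcd_eq_one
        (Nat.Coprime.pow_left L (Nat.coprime_two_left.2 hrodd)), pow_gcd_eq_one.2 ⟨h3, hur⟩]
    · exact IsUnit.of_pow_eq_one h1 hL.ne'
  have hzne : z ≠ 1 := fun h1 => hr.ne_one (by rw [← hzord, h1, orderOf_one])
  have hzu : IsUnit (z + 1) := hnonunit z hzZ hzr hzne
  -- the lift
  have hzfrm : ∀ v w, frm q (z v) (z w) = frm q v w := fun v w => by
    have h1 := adj_pow h hadj₀ (orderOf z₀ / r)
    rw [← hz] at h1
    rw [h1, ← Module.End.mul_apply]
    have hc : Commute w₀ z₀ := inZ_commute h hE K (inZ_mul h hE K hY (inZ_pow h hE K hY1 N'))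
      hz₀Z.1
    rw [hz, ← hc.mul_pow, hc.eq, hzw, one_pow, Module.End.one_apply]
  have hzz' : z * z ^ (r - 1) = 1 := by
    rw [← pow_succ', Nat.sub_add_cancel hr.pos, hzr]
  have hz'z : z ^ (r - 1) * z = 1 := by
    rw [← pow_succ, Nat.sub_add_cancel hr.pos, hzr]
  obtain ⟨a, hac, haz⟩ := exists_lift_commute h hE K hodd hfix hzZ hzz' hz'z hzfrm
  have hpow : ∀ n : ℕ, act h hE (a ^ n) = z ^ n := fun n => by
    induction n with
    | zero => simp [act_one]
    | succ n ih => rw [pow_succ, pow_succ, act_mul, ih, haz]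
  have har : a ^ r = 1 := aut_unique h hE K hodd hfix (fun k hk => (hac k hk).pow_right r)
    (fun k _ => Commute.one_right k) (by rw [hpow, hzr, act_one])
  haveI : Fact r.Prime := ⟨hr⟩
  refine ⟨r, a, hr, hr2, orderOf_eq_prime har fun h1 => hzne (by rw [← haz, h1, act_one]),
    fun e he => ?_, fun f hf hf' => ?_⟩
  · rw [← cls_eq_zero h, cls_mul, cls_inv, ← act_cls h hE, haz] at he
    obtain ⟨u, hu⟩ := hzu
    have h1 : (z + 1) (cls χ e) = 0 := he
    have h2 := congrArg ((u⁻¹ : (Module.End (ZMod 2) W)ˣ) : Module.End (ZMod 2) W) h1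
    rw [← Module.End.mul_apply, ← hu, Units.inv_mul, Module.End.one_apply, map_zero] at h2
    exact (cls_eq_zero h).1 h2
  · set y := conjEnd h hE f z with hy
    have hyZ : InZ h hE K y := inZ_conjEnd h hE K hf hf' hzZ
    have hyr : y ^ r = 1 := by
      have hp : ∀ n : ℕ, y ^ n = conjEnd h hE f (z ^ n) := fun n => by
        induction n with
        | zero => rw [pow_zero, pow_zero, conjEnd_one']
        | succ n ih => rw [pow_succ, pow_succ, conjEnd_mul, ih]
      rw [hp, hzr, conjEnd_one']
    have hcyz : Commute y z := inZ_commute h hE K hyZ hzZ.1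
    obtain ⟨n, hn⟩ : ∃ n : ℕ, y = z ^ n := by
      by_contra hcon
      push Not at hcon
      have hsumzero : ∀ u, InZ h hE K u → u ^ r = 1 → u ≠ 1 → ∑ i ∈ Finset.range r, u ^ i = 0 :=
        fun u hu hur hu1 => by
          refine (hnonunit u hu hur hu1).mul_left_eq_zero.1 ?_
          rw [mul_add, mul_one, Finset.sum_mul]
          have h1 := Finset.sum_range_succ (fun i => u ^ i) r
          rw [Finset.sum_range_succ', hur, pow_zero] at h1
          have h2 := add_right_cancel h1
          simp only [pow_succ] at h2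
          rw [h2, add_self_end]
      have hv : ∀ j, j < r → ∑ i ∈ Finset.range r, (y * z ^ (r - j)) ^ i = 0 := fun j hj => by
        refine hsumzero _ (inZ_mul h hE K hyZ (inZ_pow h hE K hzZ _)) ?_ fun h1 => hcon j ?_
        · rw [(hcyz.pow_right _).mul_pow, hyr, ← pow_mul, mul_comm, pow_mul, hzr, one_pow, one_mul]
        · have h2 := congrArg (· * z ^ j) h1
          simp only [mul_assoc, ← pow_add, Nat.sub_add_cancel hj.le, hzr, mul_one, one_mul] at h2
          exact h2
      have htot : ∑ j ∈ Finset.range r, ∑ i ∈ Finset.range r, (y * z ^ (r - j)) ^ i =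
          (1 : Module.End (ZMod 2) W) := by
        rw [Finset.sum_comm, Finset.sum_eq_single 0]
        · simp only [pow_zero, Finset.sum_const, Finset.card_range]
          obtain ⟨t, ht⟩ := hrodd
          rw [ht, add_nsmul, one_nsmul, mul_nsmul, two_nsmul, add_self_end, smul_zero, zero_add]
        · intro i hi hi0
          simp only [(hcyz.pow_right _).mul_pow, ← Finset.mul_sum]
          have hzi : z ^ i ≠ 1 := pow_ne_one_of_lt_orderOf hi0 (hzord ▸ Finset.mem_range.1 hi)
          have h0 := hsumzero (z ^ i) (inZ_pow h hE K hzZ i) (by rw [← pow_mul, mul_comm, pow_mul, hzr, one_pow]) hzi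
          rw [← Finset.sum_range_reflect] at h0
          have h3 : ∑ j ∈ Finset.range r, (z ^ (r - j)) ^ i = z ^ i * ∑ j ∈ Finset.range r, (z ^ i) ^ (r - 1 - j) := by
            rw [Finset.mul_sum]
            refine Finset.sum_congr rfl fun j hj => ?_
            rw [← pow_succ', show r - 1 - j + 1 = r - j by have := Finset.mem_range.1 hj; omega,
              ← pow_mul z, ← pow_mul z, mul_comm]
          rw [h3, h0, mul_zero, mul_zero]
        · exact fun h0 => absurd (Finset.mem_range.2 hr.pos) h0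
      rw [Finset.sum_eq_zero fun j hj => hv j (Finset.mem_range.1 hj)] at htot
      exact h10 htot.symm
    have hfa : f * a * f⁻¹ = a ^ n := aut_unique h hE K hodd hfix
      (fun k hk => by
        have h1 := hac _ (hf' k hk)
        show k * (f * a * f⁻¹) = f * a * f⁻¹ * k
        calc k * (f * a * f⁻¹) = f * (f⁻¹ * k * f * a) * f⁻¹ := by group
          _ = f * (a * (f⁻¹ * k * f)) * f⁻¹ := by rw [h1.eq]
          _ = f * a * f⁻¹ * k := by group)
      (fun k hk => (hac k hk).pow_right n)
      (by rw [hpow, ← hn, act_mul, act_mul, haz, hy]; rfl)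
    exact hfa ▸ Subgroup.npow_mem_zpowers a n

end Cfsg.Agent.SpinExt
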