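import Mathlib

/-!
# Gluing homomorphisms on a normal subgroup and a supplement

* `exists_hom_of_sup`: homomorphisms on a normal subgroup and a supplement, agreeing on the
  intersection and compatible with conjugation, glue (any target group).
* `exists_hom_of_cyclic`: the case of a cyclic quotient.
-/

set_option autoImplicit false

namespace Cfsg.Agent.SpinExt

variable {S M : Type*} [Group S] [Group M]

theorem exists_hom_of_sup (A B : Subgroup S) [A.Normal] (hsup : A ⊔ B = ⊤) (f : A →* M)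
    (g : B →* M) (hag : ∀ (a : A) (b : B), (a : S) = b → f a = g b)
    (hconj : ∀ (b : B) (a a' : A), (a' : S) = b * a * (b : S)⁻¹ →
      f a' = g b * f a * (g b)⁻¹) :
    ∃ h : S →* M, (∀ a : A, h a = f a) ∧ ∀ b : B, h b = g b := by
  have hdec : ∀ x : S, ∃ (a : A) (b : B), x = a * b := fun x => by
    obtain ⟨a, ha, b, hb, rfl⟩ := Subgroup.mem_sup_of_normal_left.1
      (hsup.symm ▸ Subgroup.mem_top x : x ∈ A ⊔ B)
    exact ⟨⟨a, ha⟩, ⟨b, hb⟩, rfl⟩
  choose α β hαβ using hdec
  have huniq : ∀ (x : S) (a : A) (b : B), x = a * b → f (α x) * g (β x) = f a * g b := by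
    intro x a b h
    have h1 : ((a⁻¹ * α x : A) : S) = ((b * (β x)⁻¹ : B) : S) := by
      simp only [Subgroup.coe_mul, Subgroup.coe_inv]
      rw [inv_mul_eq_iff_eq_mul, ← mul_assoc, eq_mul_inv_iff_mul_eq, ← hαβ, ← h]
    have h2 := hag _ _ h1
    simp only [map_mul, map_inv] at h2
    rw [eq_mul_inv_iff_mul_eq, mul_assoc, inv_mul_eq_iff_eq_mul] at h2
    exact h2
  refine ⟨MonoidHom.mk' (fun x => f (α x) * g (β x)) fun x y => ?_, fun a => ?_, fun b => ?_⟩
  · let a' : A := ⟨(β x : S) * (α y : S) * (β x : S)⁻¹,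
      Subgroup.Normal.conj_mem inferInstance _ (α y).2 _⟩
    rw [huniq (x * y) (α x * a') (β x * β y) (by
      conv_lhs => rw [hαβ x, hαβ y]
      simp [a', mul_assoc])]
    rw [map_mul, map_mul, hconj (β x) (α y) a' rfl]
    simp only [mul_assoc, inv_mul_cancel_left]
  · show f (α (a : S)) * g (β (a : S)) = f a
    rw [huniq _ a 1 (by simp), map_one, mul_one]
  · show f (α (b : S)) * g (β (b : S)) = g b
    rw [huniq _ 1 b (by simp), map_one, one_mul]

/-- A homomorphism extends across a cyclic quotient when a compatible image of a generator has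
the prescribed power. -/
theorem exists_hom_of_cyclic [Finite S] (C : Subgroup S) [C.Normal] (f : C →* M) (g : S)
    (hgen : C ⊔ Subgroup.zpowers g = ⊤) (R : M)
    (hR : ∀ c c' : C, (c' : S) = g * c * g⁻¹ → f c' = R * f c * R⁻¹)
    (hm : g ^ orderOf (g : S ⧸ C) ∈ C) (hRm : R ^ orderOf (g : S ⧸ C) = f ⟨_, hm⟩) :
    ∃ h : S →* M, (∀ c : C, h c = f c) ∧ h g = R := by
  set m := orderOf (g : S ⧸ C) with hmdef
  let gB : Subgroup.zpowers g := ⟨g, Subgroup.mem_zpowers g⟩
  have hgB : ∀ x : Subgroup.zpowers g, x ∈ Subgroup.zpowers gB := by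
    rintro ⟨x, k, rfl⟩
    exact ⟨k, Subtype.ext (by simp [gB])⟩
  have hord : orderOf R ∣ orderOf gB := by
    have ho : orderOf gB = orderOf g := (Subgroup.orderOf_coe gB).symm
    obtain ⟨q, hq⟩ : m ∣ orderOf g := orderOf_map_dvd (QuotientGroup.mk' C) g
    rw [ho, orderOf_dvd_iff_pow_eq_one, hq, pow_mul, hRm, ← map_pow]
    rw [show (⟨g ^ m, hm⟩ : C) ^ q = 1 from Subtype.ext (by
      simp [← pow_mul, ← hq, pow_orderOf_eq_one]), map_one]
  set gg := monoidHomOfForallMemZpowers hgB hord with hgg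
  have hggg : gg gB = R := monoidHomOfForallMemZpowers_apply_gen hgB hord
  have hggz : ∀ (k : ℤ) (b : Subgroup.zpowers g), (b : S) = g ^ k → gg b = R ^ k := fun k b hb => by
    rw [show b = gB ^ k from Subtype.ext (by simpa [gB] using hb), map_zpow, hggg]
  refine (exists_hom_of_sup C (Subgroup.zpowers g) hgen f gg ?_ ?_).elim
    fun h hh => ⟨h, hh.1, (hh.2 gB).trans hggg⟩
  · intro a b hab
    obtain ⟨k, hk⟩ := Subgroup.mem_zpowers_iff.1 b.2
    have hkC : (g : S ⧸ C) ^ k = 1 := by
      rw [← QuotientGroup.mk_zpow, QuotientGroup.eq_one_iff, hk, ← hab]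
      exact a.2
    obtain ⟨j, hj⟩ := orderOf_dvd_iff_zpow_eq_one.2 hkC
    rw [hggz k b hk.symm, hj, zpow_mul, zpow_natCast, ← hmdef, hRm, ← map_zpow]
    congr 1
    refine Subtype.ext ?_
    rw [hab, ← hk, hj, zpow_mul, zpow_natCast]
    simp [m]
  · have hnat : ∀ (k : ℕ) (a a' : C), (a' : S) = g ^ k * a * (g ^ k)⁻¹ →
        f a' = R ^ k * f a * (R ^ k)⁻¹ := by
      intro k
      induction k with
      | zero =>
        intro a a' h
        rw [pow_zero, one_mul, inv_one, mul_one] at h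
        rw [Subtype.ext h]
        simp
      | succ k ih =>
        intro a a' h
        let a'' : C := ⟨g ^ k * a * (g ^ k)⁻¹, Subgroup.Normal.conj_mem inferInstance _ a.2 _⟩
        rw [hR a'' a' (by rw [h, pow_succ']; simp [a'', mul_assoc]), ih a a'' rfl, pow_succ']
        simp [mul_assoc]
    intro b a a' h
    obtain ⟨k, hk : g ^ k = (b : S)⟩ :=
      (mem_powers_iff_mem_zpowers (x := g)).2 b.2
    rw [hggz k b (by rw [zpow_natCast, hk]), zpow_natCast]
    exact hnat k a a' (by rw [hk]; exact h)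

end Cfsg.Agent.SpinExt
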