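import Mathlib
import Cfsg.Agent.Lib.Char.Orthogonality
import Cfsg.Agent.Lib.Char.Linear

/-!
# A commuting element of prime order with traces of modulus one

* `spread_cases`: for integers `d_j`, `j < r`, the number `r ∑ d_j² - (∑ d_j)²` is `0` only for
  constant `d`, otherwise at least `r - 1`, with equality only if all but one `d_j` agree and
  that one differs by `±1`.
* `exists_linear_of_trace`: if `P : C → GL(V)` commutes with `Q`, `Q^r = 1`, and all
  `tr (P c Q^i)`, `r ∤ i`, have modulus one then `tr (P c Q^i) = ε λ(c) ζ^(ij)` for a linear `λ`.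
-/

set_option autoImplicit false
set_option linter.style.haveILetI false

namespace Cfsg.Agent.SpinExt

open Representation Module Finset
open scoped ComplexConjugate

universe u

theorem spread_cases {r : ℕ} (hr : 2 ≤ r) (d : Fin r → ℕ) :
    (∀ j k, d j = d k) ∨
      ((∑ j, d j) ^ 2 + (r - 1) ≤ r * ∑ j, d j ^ 2 ∧
        ((∑ j, d j) ^ 2 + (r - 1) = r * ∑ j, d j ^ 2 →
          ∃ (j₀ : Fin r) (b ε : ℤ), (ε = 1 ∨ ε = -1) ∧
            ∀ j, (d j : ℤ) = b + if j = j₀ then ε else 0)) := by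
  by_cases hconst : ∀ j k, d j = d k
  · exact Or.inl hconst
  right
  push Not at hconst
  obtain ⟨j₁, j₂, h12⟩ := hconst
  haveI : Nonempty (Fin r) := ⟨j₁⟩
  obtain ⟨jm, -, hjm⟩ := Finset.exists_min_image Finset.univ d Finset.univ_nonempty
  set e : Fin r → ℤ := fun j => (d j : ℤ) - d jm with he
  have he0 : ∀ j, 0 ≤ e j := fun j => by
    have := hjm j (mem_univ j)
    simp only [he]; omega
  set A := Finset.univ.filter fun j => e j ≠ 0 with hA
  have hk1 : 1 ≤ A.card := by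
    rw [Nat.one_le_iff_ne_zero, Ne, Finset.card_eq_zero, Finset.filter_eq_empty_iff]
    intro h
    apply h12
    have h1 := not_not.1 (h (mem_univ j₁))
    have h2 := not_not.1 (h (mem_univ j₂))
    simp only [he] at h1 h2
    omega
  have hkr : A.card + 1 ≤ r := by
    have : A ⊆ Finset.univ.erase jm := fun j hj => by
      refine mem_erase.2 ⟨?_, mem_univ j⟩
      rintro rfl
      exact (mem_filter.1 hj).2 (by simp [he])
    have h1 := Finset.card_le_card this
    rw [card_erase_of_mem (mem_univ jm), card_univ, Fintype.card_fin] at h1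
    omega
  have hsum : ∑ j ∈ A, e j = ∑ j, e j :=
    Finset.sum_subset (Finset.subset_univ _) fun j _ hj => by simpa [hA] using hj
  have hsum2 : ∑ j ∈ A, e j ^ 2 = ∑ j, e j ^ 2 :=
    Finset.sum_subset (Finset.subset_univ _) fun j _ hj => by simp [show e j = 0 by simpa [hA] using hj]
  have hcs : (∑ j, e j) ^ 2 ≤ (A.card : ℤ) * ∑ j, e j ^ 2 := by
    rw [← hsum, ← hsum2]
    exact sq_sum_le_card_mul_sum_sq
  have hone : ∀ j ∈ A, 1 ≤ e j ^ 2 := fun j hj => by
    have h1 := (mem_filter.1 hj).2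
    have := he0 j
    nlinarith [show 1 ≤ e j by omega]
  have hge : (A.card : ℤ) ≤ ∑ j, e j ^ 2 := by
    rw [← hsum2]
    calc (A.card : ℤ) = ∑ _j ∈ A, 1 := by simp
      _ ≤ _ := Finset.sum_le_sum hone
  have hshift : (r : ℤ) * (∑ j, (d j : ℤ) ^ 2) - (∑ j, (d j : ℤ)) ^ 2 =
      r * (∑ j, e j ^ 2) - (∑ j, e j) ^ 2 := by
    have h1 : ∑ j, (d j : ℤ) = ∑ j, e j + r * (d jm : ℤ) := by
      rw [Finset.sum_congr rfl fun j _ => show (d j : ℤ) = e j + (d jm : ℤ) by simp [he],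
        Finset.sum_add_distrib, Finset.sum_const, card_univ, Fintype.card_fin, nsmul_eq_mul]
    have h2 : ∑ j, (d j : ℤ) ^ 2 = ∑ j, e j ^ 2 + 2 * (d jm : ℤ) * (∑ j, e j) + r * (d jm : ℤ) ^ 2 := by
      rw [Finset.sum_congr rfl fun j _ => show
          (d j : ℤ) ^ 2 = e j ^ 2 + 2 * (d jm : ℤ) * e j + (d jm : ℤ) ^ 2 by simp [he]; ring,
        Finset.sum_add_distrib, Finset.sum_add_distrib, ← Finset.mul_sum, Finset.sum_const,
        card_univ, Fintype.card_fin, nsmul_eq_mul]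
    rw [h1, h2]
    ring
  have hk1' : (1 : ℤ) ≤ A.card := by exact_mod_cast hk1
  have hkr' : (A.card : ℤ) + 1 ≤ r := by exact_mod_cast hkr
  have hprod : (r : ℤ) - 1 ≤ (r - A.card) * A.card := by nlinarith
  have hlow : ((r : ℤ) - A.card) * (∑ j, e j ^ 2) ≤
      r * (∑ j, e j ^ 2) - (∑ j, e j) ^ 2 := by linarith
  have hlow2 : ((r : ℤ) - A.card) * A.card ≤ ((r : ℤ) - A.card) * ∑ j, e j ^ 2 :=
    mul_le_mul_of_nonneg_left hge (by linarith)
  have hr1 : ((r - 1 : ℕ) : ℤ) = r - 1 := by omega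
  refine ⟨?_, fun heq => ?_⟩
  · suffices h : ((∑ j, d j : ℕ) : ℤ) ^ 2 + ((r - 1 : ℕ) : ℤ) ≤ (r : ℤ) * ((∑ j, d j ^ 2 : ℕ) : ℤ) by
      exact_mod_cast h
    push_cast [hr1]
    linarith
  have heq' : (r : ℤ) * (∑ j, e j ^ 2) - (∑ j, e j) ^ 2 = r - 1 := by
    have h : ((∑ j, d j : ℕ) : ℤ) ^ 2 + ((r - 1 : ℕ) : ℤ) = (r : ℤ) * ((∑ j, d j ^ 2 : ℕ) : ℤ) := by
      exact_mod_cast heq
    push_cast [hr1] at h
    linarith
  have hQ : ∑ j, e j ^ 2 = A.card :=
    mul_left_cancel₀ (show (r : ℤ) - A.card ≠ 0 by omega) (by linarith)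
  have he1 : ∀ j, e j = if j ∈ A then 1 else 0 := fun j => by
    by_cases hj : j ∈ A
    · rw [if_pos hj]
      have h1 := hone j hj
      have h2 : ∑ i ∈ A, (e i ^ 2 - 1) = 0 := by
        rw [Finset.sum_sub_distrib, hsum2, hQ]; simp
      have h3 := (Finset.sum_eq_zero_iff_of_nonneg fun i hi => by linarith [hone i hi]).1 h2 j hj
      have h4 := he0 j
      nlinarith
    · rw [if_neg hj]; simpa [hA] using hj
  have hk : A.card = 1 ∨ A.card + 1 = r := by
    have h1 : ((A.card : ℤ) - 1) * ((r : ℤ) - A.card - 1) = 0 := by nlinarith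
    rcases mul_eq_zero.1 h1 with h | h
    · left; omega
    · right; omega
  rcases hk with hk | hk
  · obtain ⟨j₀, hj₀⟩ := Finset.card_eq_one.1 hk
    refine ⟨j₀, d jm, 1, Or.inl rfl, fun j => ?_⟩
    have := he1 j
    rw [hj₀] at this
    simp only [he, mem_singleton] at this
    omega
  · have hjA : jm ∉ A := by simp [hA, he]
    have hA' : A = Finset.univ.erase jm := Finset.eq_of_subset_of_card_le
      (fun j hj => mem_erase.2 ⟨fun h => hjA (h ▸ hj), mem_univ j⟩)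
      (by rw [card_erase_of_mem (mem_univ jm), card_univ, Fintype.card_fin]; omega)
    refine ⟨jm, d jm + 1, -1, Or.inr rfl, fun j => ?_⟩
    have := he1 j
    rw [hA'] at this
    simp only [he, mem_erase, mem_univ, and_true] at this
    by_cases hj : j = jm
    · rw [if_neg (not_not.2 hj)] at this; rw [if_pos hj]; omega
    · rw [if_pos hj] at this; rw [if_neg hj]; omega

theorem sum_range_shift {A : Type*} [AddCommMonoid A] (f : ℕ → A) {r : ℕ} (h : f r = f 0) :
    ∑ i ∈ range r, f (i + 1) = ∑ i ∈ range r, f i := by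
  cases r with
  | zero => simp
  | succ r => rw [Finset.sum_range_succ, h, Finset.sum_range_succ' f r]

variable {ζ : ℂ} {r : ℕ}

theorem sum_root_mul (hζ : IsPrimitiveRoot ζ r) {a b : ℕ} (ha : a < r) (hb : b < r) :
    ∑ i ∈ range r, ζ ^ (a * i) * (ζ ^ (b * i))⁻¹ = if a = b then (r : ℂ) else 0 := by
  have hz : ζ ≠ 0 := hζ.ne_zero (by omega)
  have h : ∀ i, ζ ^ (a * i) * (ζ ^ (b * i))⁻¹ = (ζ ^ a * (ζ ^ b)⁻¹) ^ i := fun i => by
    rw [mul_pow, inv_pow, ← pow_mul, ← pow_mul]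
  simp only [h]
  split_ifs with hab
  · simp [hab, mul_inv_cancel₀ (pow_ne_zero b hz)]
  · have hne : ζ ^ a * (ζ ^ b)⁻¹ ≠ 1 := fun h1 => hab (hζ.pow_inj ha hb
      ((mul_inv_eq_one₀ (pow_ne_zero b hz)).1 h1))
    rw [geom_sum_eq hne, mul_pow, inv_pow, ← pow_mul, ← pow_mul, mul_comm a, mul_comm b, pow_mul,
      pow_mul, hζ.pow_eq_one]
    simp

variable {V : Type} [AddCommGroup V] [Module ℂ V]

/-- The projection onto the `ζ^j`-eigenspace. -/
noncomputable def eigProj (ζ : ℂ) (r : ℕ) (Q : Module.End ℂ V) (j : ℕ) : Module.End ℂ V :=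
  (r : ℂ)⁻¹ • ∑ i ∈ range r, (ζ ^ (j * i))⁻¹ • Q ^ i

theorem mul_eigProj (hζ : IsPrimitiveRoot ζ r) (hr : r ≠ 0) {Q : Module.End ℂ V} (hQ : Q ^ r = 1)
    (j k : ℕ) : Q ^ k * eigProj ζ r Q j = ζ ^ (j * k) • eigProj ζ r Q j := by
  induction k with
  | zero => simp
  | succ k ih =>
    rw [pow_succ', mul_assoc, ih, mul_smul_comm]
    have h1 : Q * eigProj ζ r Q j = ζ ^ j • eigProj ζ r Q j := by
      have h := sum_range_shift (fun i => (ζ ^ (j * i))⁻¹ • Q ^ i) (r := r) (by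
        simp [hQ, mul_comm j, pow_mul, hζ.pow_eq_one])
      have hz : ζ ^ j ≠ 0 := pow_ne_zero j (hζ.ne_zero hr)
      simp only [eigProj, mul_smul_comm, Finset.mul_sum, ← pow_succ']
      rw [smul_comm (ζ ^ j), ← h, Finset.smul_sum (r := ζ ^ j)]
      congr 1
      refine Finset.sum_congr rfl fun i _ => ?_
      rw [smul_smul, Nat.mul_succ, pow_add ζ, mul_inv, mul_left_comm, mul_inv_cancel₀ hz, mul_one, pow_succ]
    rw [h1, smul_smul, Nat.mul_succ, pow_add]

theorem eigProj_mul_self (hζ : IsPrimitiveRoot ζ r) {Q : Module.End ℂ V} (hQ : Q ^ r = 1) {j : ℕ}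
    (hj : j < r) : eigProj ζ r Q j * eigProj ζ r Q j = eigProj ζ r Q j := by
  have hr : r ≠ 0 := by omega
  conv_lhs => arg 1; rw [eigProj]
  simp only [smul_mul_assoc, Finset.sum_mul, mul_eigProj hζ hr hQ, smul_smul, ← Finset.sum_smul]
  rw [Finset.sum_congr rfl fun i _ => mul_comm _ _, sum_root_mul hζ hj hj, if_pos rfl,
    inv_mul_cancel₀ (Nat.cast_ne_zero.2 hr), one_smul]

theorem pow_eq_sum_eigProj (hζ : IsPrimitiveRoot ζ r) (Q : Module.End ℂ V) {i : ℕ} (hi : i < r) :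
    Q ^ i = ∑ j : Fin r, ζ ^ ((j : ℕ) * i) • eigProj ζ r Q j := by
  have hr : (r : ℂ) ≠ 0 := Nat.cast_ne_zero.2 (by omega)
  rw [Fin.sum_univ_eq_sum_range (fun j => ζ ^ (j * i) • eigProj ζ r Q j)]
  simp only [eigProj, smul_smul, Finset.smul_sum]
  rw [Finset.sum_comm, Finset.sum_eq_single i]
  · rw [← Finset.sum_smul, Finset.sum_congr rfl fun j _ => show
        ζ ^ (j * i) * ((r : ℂ)⁻¹ * (ζ ^ (j * i))⁻¹) = (r : ℂ)⁻¹ * (ζ ^ (i * j) * (ζ ^ (i * j))⁻¹) by
      rw [mul_comm j i]; ring, ← Finset.mul_sum, sum_root_mul hζ hi hi, if_pos rfl,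
      inv_mul_cancel₀ hr, one_smul]
  · intro l hl hne
    rw [← Finset.sum_smul, Finset.sum_congr rfl fun j _ => show
        ζ ^ (j * i) * ((r : ℂ)⁻¹ * (ζ ^ (j * l))⁻¹) = (r : ℂ)⁻¹ * (ζ ^ (i * j) * (ζ ^ (l * j))⁻¹) by
      rw [mul_comm j i, mul_comm j l]; ring, ← Finset.mul_sum, sum_root_mul hζ hi (mem_range.1 hl),
      if_neg (Ne.symm hne), mul_zero, zero_smul]
  · exact fun h => absurd (mem_range.2 hi) h

variable [FiniteDimensional ℂ V] {C : Type u} [Group C] [Finite C]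

/-- The trace against a commuting idempotent is a character. -/
theorem isCharacter_trace_mul (P : C →* (Module.End ℂ V)ˣ) (e : Module.End ℂ V)
    (he : e * e = e) (hc : ∀ c, Commute (P c : Module.End ℂ V) e) :
    IsCharacter C fun c => LinearMap.trace ℂ V ((P c : Module.End ℂ V) * e) := by
  let W := LinearMap.range e
  have hW : ∀ v : W, e (v : V) = v := by
    rintro ⟨_, w, rfl⟩
    exact LinearMap.congr_fun he w
  have hmap : ∀ (c : C), ∀ v ∈ W, (P c : Module.End ℂ V) v ∈ W := by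
    rintro c _ ⟨w, rfl⟩
    exact ⟨(P c : Module.End ℂ V) w, (LinearMap.congr_fun (hc c).eq w).symm⟩
  let ρ : Representation ℂ C W :=
    { toFun := fun c => LinearMap.restrict (P c : Module.End ℂ V) (hmap c)
      map_one' := LinearMap.ext fun v => Subtype.ext (by simp)
      map_mul' := fun a b => LinearMap.ext fun v => Subtype.ext (by simp) }
  have h : (fun c => LinearMap.trace ℂ V ((P c : Module.End ℂ V) * e)) = ρ.character := by
    funext c
    have h1 : (P c : Module.End ℂ V) * e = W.subtype ∘ₗ (ρ c ∘ₗ e.rangeRestrict) :=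
      LinearMap.ext fun v => rfl
    have h2 : (ρ c ∘ₗ e.rangeRestrict) ∘ₗ W.subtype = ρ c :=
      LinearMap.ext fun v => congrArg (ρ c) (Subtype.ext (hW v))
    rw [h1, LinearMap.trace_comp_comm' (R := ℂ) (ρ c ∘ₗ e.rangeRestrict) W.subtype]
    exact congrArg (LinearMap.trace ℂ W) h2
  rw [h]
  exact Char.isCharacter_character ρ

theorem trace_inv_eq_conj {X : (Module.End ℂ V)ˣ} {N : ℕ} (hN : 0 < N) (hX : X ^ N = 1) :
    conj (LinearMap.trace ℂ V (X : Module.End ℂ V)) =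
      LinearMap.trace ℂ V ((X⁻¹ : (Module.End ℂ V)ˣ) : Module.End ℂ V) := by
  have hfin : IsOfFinOrder X := isOfFinOrder_iff_pow_eq_one.2 ⟨N, hN, hX⟩
  haveI : Finite (Subgroup.zpowers X) := hfin.finite_zpowers.to_subtype
  haveI := Fintype.ofFinite (Subgroup.zpowers X)
  let ρ : Representation ℂ (Subgroup.zpowers X) V :=
    (Units.coeHom _).comp (Subgroup.zpowers X).subtype
  exact Char.conj_character ρ ⟨X, Subgroup.mem_zpowers X⟩

theorem exists_linear_of_trace (P : C →* (Module.End ℂ V)ˣ) (Q : (Module.End ℂ V)ˣ) (hr : r.Prime)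
    (hQ : Q ^ r = 1) (hcomm : ∀ c, Commute (P c) Q) (hζ : IsPrimitiveRoot ζ r)
    (hnorm : ∀ c i, ¬ r ∣ i → LinearMap.trace ℂ V ((P c * Q ^ i : (Module.End ℂ V)ˣ) : Module.End ℂ V) *
      LinearMap.trace ℂ V (((P c * Q ^ i)⁻¹ : (Module.End ℂ V)ˣ) : Module.End ℂ V) = 1) :
    ∃ (lam : C →* ℂˣ) (ε : ℂ) (j : ℕ), (ε = 1 ∨ ε = -1) ∧ ∀ c i, ¬ r ∣ i →
      LinearMap.trace ℂ V ((P c * Q ^ i : (Module.End ℂ V)ˣ) : Module.End ℂ V) =
        ε * (lam c : ℂ) * ζ ^ (i * j) := by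
  classical
  haveI := Fintype.ofFinite C
  set q : Module.End ℂ V := (Q : Module.End ℂ V) with hq
  have hr0 : r ≠ 0 := hr.ne_zero
  have hq1 : q ^ r = 1 := by rw [hq, ← Units.val_pow_eq_pow_val, hQ, Units.val_one]
  let ψ : Fin r → C → ℂ := fun j c =>
    LinearMap.trace ℂ V ((P c : Module.End ℂ V) * eigProj ζ r q j)
  have hψ : ∀ j, IsCharacter C (ψ j) := fun j => isCharacter_trace_mul P _
    (eigProj_mul_self hζ hq1 j.2) fun c =>
      (Commute.sum_right _ _ _ fun i _ => ((((hcomm c).pow_right i)).map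
        (Units.coeHom (Module.End ℂ V))).smul_right _).smul_right _
  let u : C → ℕ → ℂ := fun c i =>
    LinearMap.trace ℂ V ((P c * Q ^ i : (Module.End ℂ V)ˣ) : Module.End ℂ V)
  have hu : ∀ c i, i < r → u c i = ∑ j : Fin r, ζ ^ ((j : ℕ) * i) * ψ j c := fun c i hi => by
    show LinearMap.trace ℂ V _ = _
    rw [Units.val_mul, Units.val_pow_eq_pow_val, ← hq, pow_eq_sum_eigProj hζ q hi, Finset.mul_sum,
      map_sum]
    exact Finset.sum_congr rfl fun j _ => by rw [mul_smul_comm, map_smul, smul_eq_mul]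
  have hconjζ : ∀ k : ℕ, conj (ζ ^ k) = (ζ ^ k)⁻¹ := fun k => by
    rw [Complex.inv_eq_conj]
    rw [norm_pow, hζ.norm'_eq_one hr0, one_pow]
  have hpars : ∀ c, ∑ i ∈ range r, u c i * conj (u c i) = r * ∑ j : Fin r, ψ j c * conj (ψ j c) := by
    intro c
    rw [Finset.sum_congr rfl fun i hi => by
      rw [hu c i (mem_range.1 hi), map_sum, Finset.sum_mul_sum]]
    rw [Finset.sum_comm, Finset.mul_sum]
    refine Finset.sum_congr rfl fun j _ => ?_
    rw [Finset.sum_comm, Finset.sum_eq_single j]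
    · simp only [map_mul, hconjζ]
      rw [Finset.sum_congr rfl fun i _ => mul_mul_mul_comm _ _ _ _, ← Finset.sum_mul,
        sum_root_mul hζ j.2 j.2, if_pos rfl]
    · intro k _ hk
      simp only [map_mul, hconjζ]
      rw [Finset.sum_congr rfl fun i _ => mul_mul_mul_comm _ _ _ _, ← Finset.sum_mul,
        sum_root_mul hζ j.2 k.2, if_neg fun h => hk (Fin.ext h.symm), zero_mul]
    · simp
  have hord : ∀ c i, (P c * Q ^ i) ^ (Nat.card C * r) = 1 := fun c i => by
    rw [((hcomm c).pow_right i).mul_pow, pow_mul, ← map_pow, pow_card_eq_one', map_one, one_pow,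
      one_mul, ← pow_mul, mul_comm (Nat.card C), ← mul_assoc, mul_comm i, mul_assoc, pow_mul, hQ,
      one_pow]
  have hunit : ∀ c i, ¬ r ∣ i → u c i * conj (u c i) = 1 := fun c i hi => by
    show _ * conj (LinearMap.trace ℂ V _) = _
    rw [trace_inv_eq_conj (Nat.mul_pos Nat.card_pos hr.pos) (hord c i)]
    exact hnorm c i hi
  have hu0 : ∀ c, u c 0 = ∑ j, ψ j c := fun c => by rw [hu c 0 hr.pos]; simp
  -- averaging over `C`
  have hglob : (r : ℂ) * ∑ j, classInner (ψ j) (ψ j) =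
      classInner (∑ j, ψ j) (∑ j, ψ j) + ((r : ℂ) - 1) := by
    simp only [classInner, ← Finset.mul_sum]
    rw [mul_left_comm, Finset.sum_comm, Finset.mul_sum]
    rw [Finset.sum_congr rfl fun c _ => (hpars c).symm]
    rw [Finset.sum_congr rfl fun c _ => show ∑ i ∈ range r, u c i * conj (u c i) =
        (∑ j, ψ j) c * conj ((∑ j, ψ j) c) + ((r : ℂ) - 1) by
      obtain ⟨r', rfl⟩ : ∃ r', r = r' + 1 := ⟨r - 1, by omega⟩
      rw [Finset.sum_range_succ', add_comm, hu0, Finset.sum_apply]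
      congr 1
      rw [Finset.sum_congr rfl fun i hi => hunit c (i + 1) fun h => by
        have := Nat.le_of_dvd (Nat.succ_pos i) h
        have := mem_range.1 hi
        omega]
      simp]
    rw [Finset.sum_add_distrib, mul_add, Finset.sum_const, card_univ, nsmul_eq_mul,
      ← mul_assoc, ← Nat.card_eq_fintype_card, inv_mul_cancel₀ Char.card_ne_zero, one_mul]
  choose m hm hmi using fun j => Char.IsCharacter.exists_decomp (hψ j)
  have hinn : ∀ j k, classInner (ψ j) (ψ k) = ∑ χ : IrrCharacter C, (m j χ : ℂ) * m k χ := by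
    intro j k
    rw [Char.classInner_eq_sum (Char.IsCharacter.isClassFunction (hψ j))]
    exact Finset.sum_congr rfl fun χ _ => by
      rw [hmi, ← Char.conj_classInner, hmi, map_natCast]
  have hnat : r * ∑ χ : IrrCharacter C, ∑ j, m j χ ^ 2 =
      ∑ χ : IrrCharacter C, (∑ j, m j χ) ^ 2 + (r - 1) := by
    have h : (r : ℂ) * ∑ χ : IrrCharacter C, ∑ j, (m j χ : ℂ) ^ 2 =
        ∑ χ : IrrCharacter C, (∑ j, (m j χ : ℂ)) ^ 2 + ((r : ℂ) - 1) := by
      rw [Finset.sum_comm]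
      simp only [sq, Finset.sum_mul_sum, ← hinn]
      rw [Finset.sum_comm (γ := IrrCharacter C), hglob, Char.classInner_sum_left]
      congr 1
      refine Finset.sum_congr rfl fun j _ => ?_
      rw [Char.classInner_sum_right, Finset.sum_comm]
      exact Finset.sum_congr rfl fun k _ => hinn j k
    have h' : ((r * ∑ χ : IrrCharacter C, ∑ j, m j χ ^ 2 : ℕ) : ℂ) =
        ((∑ χ : IrrCharacter C, (∑ j, m j χ) ^ 2 + (r - 1) : ℕ) : ℂ) := by
      push_cast [Nat.cast_sub (show 1 ≤ r by omega)]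
      exact h
    exact_mod_cast h'
  -- exactly one constituent has unequal multiplicities
  have hsp := fun χ => spread_cases hr.two_le (fun j => m j χ)
  have hex : ∃ χ₀ : IrrCharacter C, ¬ ∀ j k, m j χ₀ = m k χ₀ := by
    by_contra hcon
    push Not at hcon
    have h0 : ∀ χ : IrrCharacter C, r * ∑ j, m j χ ^ 2 = (∑ j, m j χ) ^ 2 := fun χ => by
      rw [Finset.sum_congr rfl fun j _ => by rw [hcon χ j ⟨0, hr.pos⟩],
        Finset.sum_congr rfl (g := fun _ => m ⟨0, hr.pos⟩ χ) fun j _ => hcon χ j ⟨0, hr.pos⟩,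
        Finset.sum_const, Finset.sum_const, card_univ, Fintype.card_fin, smul_eq_mul, smul_eq_mul]
      ring
    rw [Finset.mul_sum, Finset.sum_congr rfl fun χ _ => h0 χ] at hnat
    have := hr.two_le
    omega
  obtain ⟨χ₀, hχ₀⟩ := hex
  have hle : ∀ χ : IrrCharacter C, (∑ j, m j χ) ^ 2 ≤ r * ∑ j, m j χ ^ 2 := fun χ => by
    have := sq_sum_le_card_mul_sum_sq (s := (Finset.univ : Finset (Fin r))) (f := fun j => m j χ)
    simpa using this
  rw [Finset.mul_sum, ← Finset.add_sum_erase _ _ (mem_univ χ₀),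
    ← Finset.add_sum_erase _ _ (mem_univ χ₀)] at hnat
  have hrest := Finset.sum_le_sum fun χ (_ : χ ∈ Finset.univ.erase χ₀) => hle χ
  obtain ⟨hge, heq⟩ := (hsp χ₀).resolve_left hχ₀
  obtain ⟨j₀, b, ε, hε, hj₀⟩ := heq (le_antisymm hge (by linarith))
  have hothers : ∀ χ, χ ≠ χ₀ → ∀ j k, m j χ = m k χ := fun χ hχ => by
    by_contra hne
    have h1 := ((hsp χ).resolve_left hne).1
    rw [← Finset.add_sum_erase _ _ (mem_erase.2 ⟨hχ, mem_univ χ⟩),
      ← Finset.add_sum_erase _ _ (mem_erase.2 ⟨hχ, mem_univ χ⟩)] at hnat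
    have h2 := Finset.sum_le_sum fun x (_ : x ∈ (Finset.univ.erase χ₀).erase χ) => hle x
    have : 0 < r - 1 := Nat.sub_pos_of_lt hr.one_lt
    linarith
  -- the traces
  have hucalc : ∀ c i, ¬ r ∣ i → u c i = (ε : ℂ) * χ₀.1 c * ζ ^ (i * (j₀ : ℕ)) := by
    intro c i hi
    have hu' : u c i = u c (i % r) := by
      show LinearMap.trace ℂ V _ = LinearMap.trace ℂ V _
      rw [pow_eq_pow_mod i hQ]
    have hmod : ζ ^ (i * (j₀ : ℕ)) = ζ ^ ((j₀ : ℕ) * (i % r)) := by
      rw [mul_comm i, pow_mul, pow_mul]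
      exact pow_eq_pow_mod i (by rw [← pow_mul, mul_comm, pow_mul, hζ.pow_eq_one, one_pow])
    have hi' : i % r ≠ 0 := fun h => hi (Nat.dvd_of_mod_eq_zero h)
    have hgeo : ∑ j : Fin r, ζ ^ ((j : ℕ) * (i % r)) = 0 := by
      rw [Fin.sum_univ_eq_sum_range (fun j => ζ ^ (j * (i % r)))]
      have := sum_root_mul hζ (Nat.mod_lt i hr.pos) hr.pos (a := i % r) (b := 0)
      rw [if_neg hi'] at this
      simpa [mul_comm] using this
    let R : ℂ := (b : ℂ) * χ₀.1 c +
      ∑ χ ∈ Finset.univ.erase χ₀, (m j₀ χ : ℂ) * χ.1 c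
    have hψc : ∀ j, ψ j c = R + (if j = j₀ then (ε : ℂ) else 0) * χ₀.1 c := fun j => by
      rw [hm j, Finset.sum_apply, ← Finset.add_sum_erase _ _ (mem_univ χ₀)]
      simp only [Pi.smul_apply, smul_eq_mul, R]
      rw [Finset.sum_congr rfl fun χ hχ => by rw [hothers χ (ne_of_mem_erase hχ) j j₀]]
      have h1 : ((m j χ₀ : ℤ) : ℂ) = (b : ℂ) + (if j = j₀ then (ε : ℂ) else 0) := by
        rw [hj₀ j]
        split_ifs <;> push_cast <;> ring
      rw [Int.cast_natCast] at h1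
      rw [h1]; ring
    rw [hu', hu c _ (Nat.mod_lt i hr.pos), hmod]
    simp only [hψc, mul_add, Finset.sum_add_distrib, ← Finset.sum_mul, hgeo, zero_mul, zero_add]
    rw [Finset.sum_eq_single j₀]
    · rw [if_pos rfl]; ring
    · intro j _ hj; rw [if_neg hj]; ring
    · simp
  have hone : ¬ r ∣ 1 := by rw [Nat.dvd_one]; exact hr.ne_one
  have hεc : (ε : ℂ) = 1 ∨ (ε : ℂ) = -1 := by rcases hε with rfl | rfl <;> simp
  have hdeg : χ₀.1 1 = 1 := by
    have h := hunit 1 1 hone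
    rw [hucalc 1 1 hone, map_mul, map_mul, Char.IsCharacter.conj_apply (Char.irr_isCharacter χ₀),
      inv_one, hconjζ, Char.apply_one_eq_degree, map_intCast] at h
    have hz := pow_ne_zero (1 * (j₀ : ℕ)) (hζ.ne_zero hr0)
    have h2 : ((Char.degree χ₀ * Char.degree χ₀ : ℕ) : ℂ) = ((1 : ℕ) : ℂ) := by
      rw [Nat.cast_one, ← h]
      push_cast
      rcases hεc with he | he <;> rw [he] <;> field_simp
    rw [Char.apply_one_eq_degree, Nat.eq_one_of_mul_eq_one_right (Nat.cast_injective h2),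
      Nat.cast_one]
  obtain ⟨lam, hlam⟩ := Char.IsCharacter.exists_monoidHom (Char.irr_isCharacter χ₀) hdeg
  refine ⟨lam.toHomUnits, (ε : ℂ), j₀, hεc, fun c i hi => ?_⟩
  show u c i = _
  rw [hucalc c i hi, ← hlam]
  rfl

end Cfsg.Agent.SpinExt
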