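import Mathlib
import Cfsg.Agent.Lib.SpinExt.Basic
import Cfsg.Agent.Lib.SpinExt.Glue
import Cfsg.Agent.Lib.SpinExt.Trace

/-!
# An action normalising a fixed-point-free automorphism of odd prime order lifts

* `lift_of_fpf`: if a 2-group acting on the extraspecial group `E` normalises `⟨a⟩`, `a` of odd
  prime order acting without fixed points on `E/Z(E)`, then the action lifts in every irreducible
  spin representation.
-/

set_option autoImplicit false
set_option linter.style.haveILetI false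
set_option linter.unusedSectionVars false

namespace Cfsg.Agent.SpinExt

open Representation Module

universe u

variable {E : Type u} [Group E] [Finite E] {S : Type u} [Group S] [Finite S]
variable {V : Type} [AddCommGroup V] [Module ℂ V] [FiniteDimensional ℂ V]
variable {π : Representation ℂ E V}

/-- Fixed-point-free on `E/Z(E)`. -/
def Fpf (f : MulAut E) : Prop := ∀ e, f e * e⁻¹ ∈ Subgroup.center E → e ∈ Subgroup.center E

theorem fixed_pow (hE : IsExtraspecial 2 E) {f : MulAut E} {e : E}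
    (h : f e * e⁻¹ ∈ Subgroup.center E) (k : ℕ) : (f ^ k) e * e⁻¹ ∈ Subgroup.center E := by
  induction k with
  | zero => simp
  | succ k ih =>
    rw [pow_succ, MulAut.mul_apply, show f e = f e * e⁻¹ * e by group, map_mul,
      aut_apply_center hE _ h, mul_assoc]
    exact Subgroup.mul_mem _ h ih

theorem trace_mul_trace_inv (hE : IsExtraspecial 2 E) [π.IsIrreducible] (hπ : Spin π)
    {f : MulAut E} (hf : Fpf f) {X : (Module.End ℂ V)ˣ} (hX : Intertwines π f X) :
    LinearMap.trace ℂ V (X : Module.End ℂ V) *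
      LinearMap.trace ℂ V ((X⁻¹ : (Module.End ℂ V)ˣ) : Module.End ℂ V) = 1 := by
  haveI := Fintype.ofFinite E
  have h1 := sum_conj hE hπ (X : Module.End ℂ V)
  have hXx : ∀ x, (X : Module.End ℂ V) * π x⁻¹ = π (f x⁻¹) * X := fun x =>
    congrArg Units.val (hX x⁻¹)
  rw [Finset.sum_congr rfl fun x _ => show π x * X * π x⁻¹ = π (x * f x⁻¹) * X by
    rw [mul_assoc, hXx, ← mul_assoc, ← map_mul], ← Finset.sum_mul] at h1
  have h2 := congrArg
    (fun M => LinearMap.trace ℂ V (M * ((X⁻¹ : (Module.End ℂ V)ˣ) : Module.End ℂ V))) h1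
  simp only [mul_assoc, Units.mul_inv, mul_one, smul_mul_assoc, one_mul, map_smul, smul_eq_mul,
    map_sum] at h2
  obtain ⟨z, hz, hz1, hsum⟩ := sum_center hE (fun x => LinearMap.trace ℂ V (π (x * f x⁻¹)))
    fun x hx => trace_eq_zero hE hπ fun hc => hx (hf x (by
      have := Subgroup.inv_mem _ hc
      rwa [mul_inv_rev, map_inv, inv_inv] at this))
  rw [hsum, inv_one, map_one, one_mul, map_one π, LinearMap.trace_one,
    aut_apply_center hE f (Subgroup.inv_mem _ hz), mul_inv_cancel, map_one π,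
    LinearMap.trace_one] at h2
  refine mul_left_cancel₀ (mul_ne_zero two_ne_zero (finrank_ne_zero hE hπ)) ?_
  rw [mul_one]
  linear_combination -h2

theorem coe_mul_scalar (A : (Module.End ℂ V)ˣ) (c : ℂˣ) :
    LinearMap.trace ℂ V ((A * Clifford.scalarUnit V c : (Module.End ℂ V)ˣ) : Module.End ℂ V) =
      (c : ℂ) * LinearMap.trace ℂ V (A : Module.End ℂ V) := by
  rw [Units.val_mul, Clifford.coe_scalarUnit, ← Algebra.commutes, ← Algebra.smul_def, map_smul,
    smul_eq_mul]

theorem trace_conj_units (A B : (Module.End ℂ V)ˣ) :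
    LinearMap.trace ℂ V ((A * B * A⁻¹ : (Module.End ℂ V)ˣ) : Module.End ℂ V) =
      LinearMap.trace ℂ V (B : Module.End ℂ V) := by
  rw [Units.val_mul, LinearMap.trace_mul_comm ℂ, ← Units.val_mul, inv_mul_cancel_left]

theorem exists_subgroup_index_two {M : Type u} [Group M] [Finite M] (hM : IsPGroup 2 M)
    (h1 : Nat.card M ≠ 1) : ∃ N : Subgroup M, N.index = 2 := by
  haveI : Fact (Nat.Prime 2) := ⟨Nat.prime_two⟩
  obtain ⟨k, hk⟩ := IsPGroup.iff_card.1 hM
  obtain ⟨k', rfl⟩ : ∃ k', k = k' + 1 := ⟨k - 1, by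
    have : k ≠ 0 := fun h => h1 (by rw [hk, h, pow_zero])
    omega⟩
  obtain ⟨N, hN⟩ := Sylow.exists_subgroup_card_pow_prime 2
    (show 2 ^ k' ∣ Nat.card M from hk ▸ pow_dvd_pow 2 (Nat.le_succ k'))
  refine ⟨N, Nat.eq_of_mul_eq_mul_left (pow_pos two_pos k') ?_⟩
  rw [← pow_succ, ← hk, ← hN, Subgroup.card_mul_index]

/-- The lift, normalised by the traces against the powers of `Q`, on a subgroup centralising `a`. -/
theorem exists_normalised (hE : IsExtraspecial 2 E) [π.IsIrreducible] (hπ : Spin π)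
    (σ : S →* MulAut E) (hS : IsPGroup 2 S) (a : MulAut E) {r : ℕ} (hr : r.Prime) (hr2 : r ≠ 2)
    (hord : orderOf a = r) (hfpf : Fpf a) (Q : (Module.End ℂ V)ˣ) (hQi : Intertwines π a Q)
    (hQr : Q ^ r = 1) {ζ : ℂ} (hζ : IsPrimitiveRoot ζ r) {ε : ℂ} (hε : ε ≠ 0)
    (hQt : ∀ i, ¬ r ∣ i → LinearMap.trace ℂ V ((Q ^ i : (Module.End ℂ V)ˣ) : Module.End ℂ V) = ε)
    (hQc : ∀ (s : S) (R : (Module.End ℂ V)ˣ), Commute (σ s) a → Intertwines π (σ s) R → Commute R Q)
    (M : Subgroup S) (hM : ∀ s ∈ M, Commute (σ s) a) :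
    ∃ P : M →* (Module.End ℂ V)ˣ, Lifts π (σ.comp M.subtype) P ∧ ∀ (c : M) (i : ℕ), ¬ r ∣ i →
      LinearMap.trace ℂ V ((P c * Q ^ i : (Module.End ℂ V)ˣ) : Module.End ℂ V) = ε := by
  induction hn : Nat.card M using Nat.strong_induction_on generalizing M with
  | _ n ih =>
  subst hn
  by_cases h1 : Nat.card M = 1
  · haveI : Subsingleton M := (Nat.card_eq_one_iff_unique.1 h1).1
    refine ⟨1, fun s => ?_, fun c i hi => by rw [MonoidHom.one_apply, one_mul, hQt i hi]⟩
    rw [Subsingleton.elim s 1]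
    simpa using Intertwines.one
  obtain ⟨N, hN⟩ := exists_subgroup_index_two (hS.to_subgroup M) h1
  haveI : N.Normal := Subgroup.normal_of_index_eq_two hN
  have hNcard : Nat.card (N.map M.subtype) < Nat.card M := by
    rw [Subgroup.card_map_of_injective M.subtype_injective, ← Subgroup.card_mul_index N, hN]
    have := Nat.card_pos (α := N)
    omega
  obtain ⟨P₀, hP₀, hP₀t⟩ := ih _ hNcard (N.map M.subtype)
    (fun s hs => hM s (Subgroup.map_subtype_le N hs)) rfl
  let e : N →* N.map M.subtype :=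
    (N.equivMapOfInjective M.subtype M.subtype_injective).toMonoidHom
  let f : N →* (Module.End ℂ V)ˣ := P₀.comp e
  have hfi : ∀ n : N, Intertwines π (σ ((n : M) : S)) (f n) := fun n => hP₀ (e n)
  have hft : ∀ (n : N) (i : ℕ), ¬ r ∣ i →
      LinearMap.trace ℂ V ((f n * Q ^ i : (Module.End ℂ V)ˣ) : Module.End ℂ V) = ε :=
    fun n i hi => hP₀t (e n) i hi
  obtain ⟨g, -, hg⟩ := SetLike.exists_of_lt (lt_top_iff_ne_top.2 fun h : N = ⊤ => by
    rw [h, Subgroup.index_top] at hN; omega)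
  have hgen : N ⊔ Subgroup.zpowers g = ⊤ := by
    rw [← Subgroup.index_eq_one]
    have hdvd := Subgroup.index_dvd_of_le (show N ≤ N ⊔ Subgroup.zpowers g from le_sup_left)
    rw [hN] at hdvd
    refine ((Nat.dvd_prime Nat.prime_two).1 hdvd).resolve_right fun h2 => hg ?_
    have hrel := Subgroup.relIndex_mul_index (show N ≤ N ⊔ Subgroup.zpowers g from le_sup_left)
    rw [hN, h2] at hrel
    have : N ⊔ Subgroup.zpowers g ≤ N := Subgroup.relIndex_eq_one.1 (by omega)
    exact this (Subgroup.mem_sup_right (Subgroup.mem_zpowers g))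
  set m := orderOf (g : M ⧸ N)
  have hm : g ^ m ∈ N := by
    rw [← QuotientGroup.eq_one_iff, QuotientGroup.mk_pow]; exact pow_orderOf_eq_one _
  obtain ⟨R, hR, hRm⟩ := exists_scaled_intertwiner hE hπ (σ (g : S)) (orderOf_pos (g : M ⧸ N))
    (Y := f ⟨_, hm⟩) (by rw [← map_pow]; exact hfi ⟨_, hm⟩)
  have hone : ¬ r ∣ 1 := by rw [Nat.dvd_one]; exact hr.ne_one
  have hRQ : Commute R Q := hQc g R (hM g g.2) hR
  obtain ⟨P₁, hP₁, hP₁g⟩ := exists_hom_of_cyclic N f g hgen R (fun c c' hcc => by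
    have hi : Intertwines π (σ ((c' : M) : S)) (R * f c * R⁻¹) := by
      rw [hcc]
      simp only [Subgroup.coe_mul, Subgroup.coe_inv, map_mul, map_inv]
      exact (hR.mul (hfi c)).mul hR.inv
    obtain ⟨ν, hν⟩ := exists_scalar_of_intertwines (hfi c') hi
    have h2 := coe_mul_scalar (f c' * Q ^ 1) ν
    rw [show f c' * Q ^ 1 * Clifford.scalarUnit V ν = R * (f c * Q ^ 1) * R⁻¹ by
      rw [mul_assoc, ← Clifford.scalarUnit_comm, ← mul_assoc, ← hν]
      simp only [mul_assoc, pow_one, (hRQ.inv_left).eq], trace_conj_units, hft c 1 hone,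
      hft c' 1 hone] at h2
    have hν1 : ν = 1 := Units.ext ((mul_eq_right₀ hε).1 h2.symm)
    rw [hν, hν1, map_one, mul_one]) hm hRm
  have hP₁i : ∀ c : M, Intertwines π (σ (c : S)) (P₁ c) := by
    let H : Subgroup M :=
      { carrier := {c | Intertwines π (σ (c : S)) (P₁ c)}
        one_mem' := by simpa using Intertwines.one
        mul_mem' := fun {x y} hx hy => by simpa using Intertwines.mul hx hy
        inv_mem' := fun {x} hx => by simpa using Intertwines.inv hx }
    have : (⊤ : Subgroup M) ≤ H := by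
      rw [← hgen, sup_le_iff, Subgroup.zpowers_le]
      exact ⟨fun c hc => by show Intertwines π _ (P₁ c); rw [hP₁ ⟨c, hc⟩]; exact hfi ⟨c, hc⟩,
        by show Intertwines π _ (P₁ g); rw [hP₁g]; exact hR⟩
    exact fun c => this (Subgroup.mem_top c)
  have hcomm : ∀ c : M, Commute (P₁ c) Q := fun c => hQc c _ (hM c c.2) (hP₁i c)
  obtain ⟨lam, ε', j, -, hlam⟩ := exists_linear_of_trace P₁ Q hr hQr hcomm hζ fun c i hi => by
    refine trace_mul_trace_inv hE hπ (fun e he => hfpf e ?_) ((hP₁i c).mul (hQi.pow i))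
    obtain ⟨k, hk⟩ := hS (c : S)
    have h3 := fixed_pow hE he (2 ^ k)
    rw [(hM c c.2).pow_right i |>.mul_pow, ← map_pow, hk, map_one, one_mul, ← pow_mul] at h3
    have hcop : Nat.Coprime (i * 2 ^ k) (orderOf a) := by
      rw [hord, Nat.coprime_comm, hr.coprime_iff_not_dvd, hr.dvd_mul]
      exact fun h => h.elim hi fun h' => hr2 ((Nat.prime_dvd_prime_iff_eq hr Nat.prime_two).1
        (hr.dvd_of_dvd_pow h'))
    obtain ⟨l, hl⟩ := exists_pow_eq_self_of_coprime hcop
    have := fixed_pow hE h3 l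
    rwa [hl] at this
  have hε' : ∀ i, ¬ r ∣ i → ε' * ζ ^ (i * j) = ε := fun i hi => by
    have h := hlam 1 i hi
    simp only [map_one, one_mul, hQt i hi, Units.val_one, mul_one] at h
    exact h.symm
  have htwo : ¬ r ∣ 2 := fun h => hr2 ((Nat.prime_dvd_prime_iff_eq hr Nat.prime_two).1 h)
  have hz : ζ ^ j = 1 := by
    have h1 := hε' 1 hone
    have h2 := hε' 2 htwo
    rw [one_mul] at h1
    rw [two_mul, pow_add, ← mul_assoc, h1] at h2
    exact (mul_eq_left₀ hε).1 h2
  let P : M →* (Module.End ℂ V)ˣ := MonoidHom.mk'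
    (fun c => P₁ c * Clifford.scalarUnit V (lam c)⁻¹) fun x y => by
      have h := Clifford.scalarUnit_comm (lam x)⁻¹ (P₁ y)
      simp only [map_mul, mul_inv, mul_assoc]
      congr 1
      rw [← mul_assoc (Clifford.scalarUnit V (lam x)⁻¹) (P₁ y), h, mul_assoc]
  refine ⟨P, fun c => (hP₁i c).mul_scalar _, fun c i hi => ?_⟩
  show LinearMap.trace ℂ V ((P₁ c * Clifford.scalarUnit V (lam c)⁻¹ * Q ^ i :
    (Module.End ℂ V)ˣ) : Module.End ℂ V) = ε
  rw [mul_assoc, Clifford.scalarUnit_comm, ← mul_assoc, coe_mul_scalar, hlam c i hi,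
    mul_comm i j, pow_mul, hz, one_pow, mul_one, mul_left_comm, Units.inv_mul, mul_one]
  have := hε' r.succ (fun h => hr.ne_one ((Nat.dvd_add_right (dvd_refl r)).1 h |> Nat.dvd_one.1))
  rwa [mul_comm r.succ j, pow_mul, hz, one_pow, mul_one] at this

theorem lift_of_fpf (hE : IsExtraspecial 2 E) [π.IsIrreducible] (hπ : Spin π)
    (σ : S →* MulAut E) (hS : IsPGroup 2 S) (a : MulAut E) {r : ℕ} (hr : r.Prime) (hr2 : r ≠ 2)
    (hord : orderOf a = r) (hfpf : Fpf a)
    (hnorm : ∀ s, σ s * a * (σ s)⁻¹ ∈ Subgroup.zpowers a) :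
    ∃ P, Lifts π σ P := by
  haveI : Fact r.Prime := ⟨hr⟩
  obtain ⟨ζ, hζ⟩ : ∃ ζ : ℂ, IsPrimitiveRoot ζ r := ⟨_, Complex.isPrimitiveRoot_exp r hr.ne_zero⟩
  have hone : ¬ r ∣ 1 := by rw [Nat.dvd_one]; exact hr.ne_one
  -- the normalised intertwiner of `a`
  obtain ⟨Q₀, hQ₀, hQ₀r⟩ := exists_scaled_intertwiner hE hπ a hr.pos (Y := 1)
    (by rw [← hord, pow_orderOf_eq_one]; exact Intertwines.one)
  have hfpow : ∀ i, ¬ r ∣ i → Fpf (a ^ i) := fun i hi e he => by
    obtain ⟨l, hl⟩ := exists_pow_eq_self_of_coprime (n := i) (x := a) (by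
      rw [hord, Nat.coprime_comm, hr.coprime_iff_not_dvd]; exact hi)
    have := fixed_pow hE he l
    rw [hl] at this
    exact hfpf e this
  obtain ⟨lam₀, ε, j, hε, hlam₀⟩ := exists_linear_of_trace (C := (⊥ : Subgroup S))
    (1 : (⊥ : Subgroup S) →* (Module.End ℂ V)ˣ) Q₀ hr hQ₀r (fun _ => Commute.one_left _) hζ
    fun c i hi => by
      simpa using trace_mul_trace_inv hE hπ (hfpow i hi) (hQ₀.pow i)
  have hε0 : ε ≠ 0 := by rcases hε with rfl | rfl <;> norm_num
  have hzj : ζ ^ j ≠ 0 := pow_ne_zero j (hζ.ne_zero hr.ne_zero)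
  set u : ℂˣ := (Units.mk0 (ζ ^ j) hzj)⁻¹
  set Q := Q₀ * Clifford.scalarUnit V u with hQdef
  have hQpow : ∀ i, Q ^ i = Q₀ ^ i * Clifford.scalarUnit V (u ^ i) := fun i => by
    rw [hQdef, (show Commute Q₀ (Clifford.scalarUnit V u) from
      (Clifford.scalarUnit_comm u Q₀).symm).mul_pow, map_pow]
  have hQi : Intertwines π a Q := hQ₀.mul_scalar u
  have hQr : Q ^ r = 1 := by
    have hu : u ^ r = 1 := Units.ext (by
      rw [Units.val_pow_eq_pow_val, Units.val_inv_eq_inv_val, Units.val_mk0, inv_pow, ← pow_mul,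
        mul_comm j, pow_mul, hζ.pow_eq_one, one_pow, inv_one, Units.val_one])
    rw [hQpow, hQ₀r, hu, map_one, one_mul]
  have hQt : ∀ i, ¬ r ∣ i →
      LinearMap.trace ℂ V ((Q ^ i : (Module.End ℂ V)ˣ) : Module.End ℂ V) = ε := fun i hi => by
    have h := hlam₀ 1 i hi
    simp only [map_one, one_mul, Units.val_one, mul_one] at h
    rw [hQpow, coe_mul_scalar, h]
    simp [u, ← pow_mul, mul_comm j i]
    field_simp [hζ.ne_zero hr.ne_zero]
  -- intertwiners move `Q` to its powers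
  have hmove : ∀ (s : S) (R : (Module.End ℂ V)ˣ) (k : ℕ), σ s * a * (σ s)⁻¹ = a ^ k →
      Intertwines π (σ s) R → ¬ r ∣ k ∧ R * Q * R⁻¹ = Q ^ k := fun s R k hk hR => by
    have hrk : ¬ r ∣ k := fun h => by
      obtain ⟨q, rfl⟩ := h
      rw [pow_mul, ← hord, pow_orderOf_eq_one, one_pow, mul_inv_eq_one, mul_eq_left] at hk
      rw [hk, orderOf_one] at hord
      exact hr.ne_one hord.symm
    refine ⟨hrk, ?_⟩
    have hi : Intertwines π (a ^ k) (R * Q * R⁻¹) := hk ▸ (hR.mul hQi).mul hR.inv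
    obtain ⟨ν, hν⟩ := exists_scalar_of_intertwines (hQi.pow k) hi
    have h2 := coe_mul_scalar (Q ^ k) ν
    rw [← hν, trace_conj_units, hQt k hrk] at h2
    have h3 := hQt 1 hone
    rw [pow_one] at h3
    rw [h3] at h2
    have hν1 : ν = 1 := Units.ext ((mul_eq_right₀ hε0).1 h2.symm)
    rw [hν, hν1, map_one, mul_one]
  have hQc : ∀ (s : S) (R : (Module.End ℂ V)ˣ), Commute (σ s) a → Intertwines π (σ s) R →
      Commute R Q := fun s R hs hR => by
    have h := (hmove s R 1 (by rw [pow_one, hs.eq, mul_inv_cancel_right]) hR).2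
    rwa [pow_one, mul_inv_eq_iff_eq_mul] at h
  -- the kernel of the action on `⟨a⟩`
  let nm : S →* Subgroup.normalizer ((Subgroup.zpowers a : Subgroup (MulAut E)) : Set (MulAut E)) :=
    σ.codRestrict _ fun s => by
      refine Subgroup.mem_normalizer_iff.2 fun x => ⟨?_, ?_⟩
      · rintro ⟨k, rfl⟩
        show σ s * a ^ k * (σ s)⁻¹ ∈ _
        rw [← conj_zpow]
        exact Subgroup.zpow_mem _ (hnorm s) k
      · intro hx
        obtain ⟨k, hk⟩ := hx
        have h1 := Subgroup.zpow_mem _ (hnorm s⁻¹) k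
        rw [conj_zpow, map_inv, inv_inv] at h1
        have hk' : a ^ k = σ s * x * (σ s)⁻¹ := hk
        rw [hk'] at h1
        simpa [mul_assoc] using h1
  let act : S →* MulAut (Subgroup.zpowers a) := (Subgroup.zpowers a).normalizerMonoidHom.comp nm
  have hact : ∀ (s : S) (x : Subgroup.zpowers a),
      ((act s x : Subgroup.zpowers a) : MulAut E) = σ s * x * (σ s)⁻¹ := fun _ _ => rfl
  set C := act.ker with hCdef
  have hC : ∀ s ∈ C, Commute (σ s) a := fun s hs => by
    have h := hact s ⟨a, Subgroup.mem_zpowers a⟩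
    rw [MonoidHom.mem_ker.1 hs] at h
    exact (mul_inv_eq_iff_eq_mul.1 h.symm)
  obtain ⟨P, hP, hPt⟩ := exists_normalised hE hπ σ hS a hr hr2 hord hfpf Q hQi hQr hζ hε0 hQt hQc C hC
  -- across the cyclic quotient
  haveI : IsCyclic (S ⧸ C) := by
    have hc : Nat.card (Subgroup.zpowers a) = r := (Nat.card_zpowers a).trans hord
    haveI : IsCyclic (ZMod (Nat.card (Subgroup.zpowers a)))ˣ := by rw [hc]; infer_instance
    let φ : S ⧸ C →* (ZMod (Nat.card (Subgroup.zpowers a)))ˣ :=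
      (IsCyclic.mulAutMulEquiv (Subgroup.zpowers a)).toMonoidHom.comp (QuotientGroup.kerLift act)
    exact isCyclic_of_injective φ
      ((IsCyclic.mulAutMulEquiv (Subgroup.zpowers a)).injective.comp
        (QuotientGroup.kerLift_injective act))
  obtain ⟨gen, hgen⟩ := IsCyclic.exists_generator (α := S ⧸ C)
  obtain ⟨g, rfl⟩ := QuotientGroup.mk_surjective gen
  have hsup : C ⊔ Subgroup.zpowers g = ⊤ := by
    refine eq_top_iff.2 fun x _ => ?_
    obtain ⟨k, hk⟩ := hgen (x : S ⧸ C)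
    have hk' : ((g ^ k : S) : S ⧸ C) = (x : S ⧸ C) := hk
    rw [QuotientGroup.eq] at hk'
    rw [← mul_inv_cancel_left (g ^ k) x]
    exact Subgroup.mul_mem _ (Subgroup.mem_sup_right ⟨k, rfl⟩) (Subgroup.mem_sup_left hk')
  set m := orderOf (g : S ⧸ C)
  have hm : g ^ m ∈ C := by
    rw [← QuotientGroup.eq_one_iff, QuotientGroup.mk_pow]; exact pow_orderOf_eq_one _
  obtain ⟨R, hR, hRm⟩ := exists_scaled_intertwiner hE hπ (σ g) (orderOf_pos (g : S ⧸ C))
    (Y := P ⟨_, hm⟩) (by rw [← map_pow]; exact hP ⟨_, hm⟩)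
  obtain ⟨k, hk⟩ : ∃ k : ℕ, σ g * a * (σ g)⁻¹ = a ^ k := by
    obtain ⟨k, hk⟩ := (mem_powers_iff_mem_zpowers (x := a)).2 (hnorm g)
    exact ⟨k, hk.symm⟩
  obtain ⟨hrk, hRQ⟩ := hmove g R k hk hR
  obtain ⟨h, h1, h2⟩ := exists_hom_of_cyclic C P g hsup R (fun c c' hcc => by
    have hi : Intertwines π (σ (c' : S)) (R * P c * R⁻¹) := by
      rw [hcc]
      simp only [map_mul, map_inv]
      exact (hR.mul (hP c)).mul hR.inv
    obtain ⟨ν, hν⟩ := exists_scalar_of_intertwines (hP c') hi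
    have h3 := coe_mul_scalar (P c' * Q ^ k) ν
    rw [show P c' * Q ^ k * Clifford.scalarUnit V ν = R * (P c * Q ^ 1) * R⁻¹ by
      rw [mul_assoc, ← Clifford.scalarUnit_comm, ← mul_assoc, ← hν, ← hRQ]
      simp [mul_assoc], trace_conj_units, hPt c 1 hone, hPt c' k hrk] at h3
    have hν1 : ν = 1 := Units.ext ((mul_eq_right₀ hε0).1 h3.symm)
    rw [hν, hν1, map_one, mul_one]) hm hRm
  refine ⟨h, ?_⟩
  let H : Subgroup S :=
    { carrier := {s | Intertwines π (σ s) (h s)}
      one_mem' := by simpa using Intertwines.one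
      mul_mem' := fun {x y} hx hy => by simpa using Intertwines.mul hx hy
      inv_mem' := fun {x} hx => by simpa using Intertwines.inv hx }
  have : (⊤ : Subgroup S) ≤ H := by
    rw [← hsup, sup_le_iff, Subgroup.zpowers_le]
    exact ⟨fun c hc => by show Intertwines π _ (h c); rw [h1 ⟨c, hc⟩]; exact hP ⟨c, hc⟩,
      by show Intertwines π _ (h g); rw [h2]; exact hR⟩
  exact fun s => this (Subgroup.mem_top s)

end Cfsg.Agent.SpinExt
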