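import Mathlib
import Cfsg.Agent.Lib.SpinExt.Basic
import Cfsg.Agent.Lib.SpinExt.Glue

/-!
# Lifts across a subgroup with cyclic quotient

* `lift_of_step`: a lift on a normal subgroup `C`, compatible with any intertwiner of a generator
  of the quotient, extends.
* `exists_gen_of_two`: generation from a subgroup with at most two cosets.
-/

set_option autoImplicit false
set_option linter.style.haveILetI false
set_option linter.unusedSectionVars false

namespace Cfsg.Agent.SpinExt

open Representation Module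

universe u

variable {E : Type u} [Group E] [Finite E] {S : Type u} [Group S] [Finite S]
variable {V : Type} [AddCommGroup V] [Module ℂ V] [FiniteDimensional ℂ V]
variable {π : Representation ℂ E V}

theorem lift_of_step (hE : IsExtraspecial 2 E) [π.IsIrreducible] (hπ : Spin π)
    (σ : S →* MulAut E) (C : Subgroup S) [C.Normal] (P : C →* (Module.End ℂ V)ˣ)
    (hP : ∀ c : C, Intertwines π (σ (c : S)) (P c)) (g : S)
    (hgen : C ⊔ Subgroup.zpowers g = ⊤)
    (hcompat : ∀ R, Intertwines π (σ g) R → ∀ c c' : C, (c' : S) = g * c * g⁻¹ →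
      P c' = R * P c * R⁻¹) : ∃ h, Lifts π σ h := by
  set m := orderOf (g : S ⧸ C)
  have hm : g ^ m ∈ C := by
    rw [← QuotientGroup.eq_one_iff, QuotientGroup.mk_pow]; exact pow_orderOf_eq_one _
  obtain ⟨R, hR, hRm⟩ := exists_scaled_intertwiner hE hπ (σ g) (orderOf_pos (g : S ⧸ C))
    (Y := P ⟨_, hm⟩) (by rw [← map_pow]; exact hP ⟨_, hm⟩)
  obtain ⟨h, h1, h2⟩ := exists_hom_of_cyclic C P g hgen R (hcompat R hR) hm hRm
  refine ⟨h, ?_⟩
  let H : Subgroup S :=
    { carrier := {s | Intertwines π (σ s) (h s)}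
      one_mem' := by simpa using Intertwines.one
      mul_mem' := fun {x y} hx hy => by simpa using Intertwines.mul hx hy
      inv_mem' := fun {x} hx => by simpa using Intertwines.inv hx }
  have : (⊤ : Subgroup S) ≤ H := by
    rw [← hgen, sup_le_iff, Subgroup.zpowers_le]
    exact ⟨fun c hc => by show Intertwines π _ (h c); rw [h1 ⟨c, hc⟩]; exact hP ⟨c, hc⟩,
      by show Intertwines π _ (h g); rw [h2]; exact hR⟩
  exact fun s => this (Subgroup.mem_top s)

theorem sup_zpowers_eq_top (C : Subgroup S) (g : S) (h : ∀ s, s ∈ C ∨ s * g⁻¹ ∈ C) :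
    C ⊔ Subgroup.zpowers g = ⊤ := by
  refine eq_top_iff.2 fun x _ => ?_
  rcases h x with hx | hx
  · exact Subgroup.mem_sup_left hx
  · rw [← inv_mul_cancel_right x g]
    exact Subgroup.mul_mem _ (Subgroup.mem_sup_left hx)
      (Subgroup.mem_sup_right (Subgroup.mem_zpowers g))

theorem normal_of_two (C : Subgroup S) (g : S) (hg : g ∉ C) (h : ∀ s, s ∈ C ∨ s * g⁻¹ ∈ C) :
    C.Normal := by
  refine Subgroup.normal_of_index_eq_two (Subgroup.index_eq_two_iff.2 ⟨g⁻¹, fun b => ?_⟩)
  rcases h b with hb | hb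
  · exact Or.inr ⟨hb, fun h' => hg (inv_mem_iff.1 ((C.mul_mem_cancel_left hb).1 h'))⟩
  · exact Or.inl ⟨hb, fun h' => hg (inv_mem_iff.1 ((C.mul_mem_cancel_left h').1 hb))⟩

end Cfsg.Agent.SpinExt
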