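import Mathlib
import Cfsg.Agent.Lib.SpinExt.Extend

/-!
# An action permuting a pair of complementary lagrangian subgroups lifts

* `lift_of_lagrangian`: if subgroups `U₁`, `U₂` of the extraspecial `E` meet the centre trivially,
  `U₁ U₂ Z(E) = E` and the action permutes them, then the action lifts.
-/

set_option autoImplicit false
set_option linter.style.haveILetI false
set_option linter.unusedSectionVars false

namespace Cfsg.Agent.SpinExt

open Representation Module

universe u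

variable {E : Type u} [Group E] [Finite E] {S : Type u} [Group S] [Finite S]
variable {V : Type} [AddCommGroup V] [Module ℂ V] [FiniteDimensional ℂ V]
variable {π : Representation ℂ E V}

/-- The averaging idempotent of a subgroup. -/
noncomputable def avg (π : Representation ℂ E V) (H : Subgroup E) [Fintype H] : Module.End ℂ V :=
  (Nat.card H : ℂ)⁻¹ • ∑ h : H, π h

theorem apply_mul_avg (H : Subgroup E) [Fintype H] (h : H) : π h * avg π H = avg π H := by
  rw [avg, mul_smul_comm, Finset.mul_sum]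
  congr 1
  exact Fintype.sum_equiv (Equiv.mulLeft h) _ _ fun x => by
    rw [Equiv.coe_mulLeft, Subgroup.coe_mul, map_mul]

theorem avg_mul_avg (H : Subgroup E) [Fintype H] : avg π H * avg π H = avg π H := by
  conv_lhs => arg 1; rw [avg]
  rw [smul_mul_assoc, Finset.sum_mul, Finset.sum_congr rfl fun h _ => apply_mul_avg H h,
    Finset.sum_const, Finset.card_univ, ← Nat.card_eq_fintype_card, ← Nat.cast_smul_eq_nsmul ℂ,
    smul_smul, inv_mul_cancel₀ (Nat.cast_ne_zero.2 Nat.card_pos.ne'), one_smul]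

theorem intertwines_avg {f : MulAut E} {R : (Module.End ℂ V)ˣ} (hR : Intertwines π f R)
    (H H' : Subgroup E) [Fintype H] [Fintype H'] (hH : H.map f.toMonoidHom = H') :
    (R : Module.End ℂ V) * avg π H = avg π H' * R := by
  subst hH
  let e : H ≃ H.map f.toMonoidHom :=
    (H.equivMapOfInjective f.toMonoidHom f.injective).toEquiv
  rw [avg, avg, mul_smul_comm, smul_mul_assoc, Finset.mul_sum, Finset.sum_mul,
    Subgroup.card_map_of_injective (f := f.toMonoidHom) f.injective]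
  congr 1
  refine Fintype.sum_equiv e _ _ fun h => ?_
  exact congrArg Units.val (hR (h : E))

theorem card_le_and_trace (hE : IsExtraspecial 2 E) [π.IsIrreducible] (hπ : Spin π)
    (H : Subgroup E) [Fintype H] (hH : H ⊓ Subgroup.center E = ⊥) :
    Nat.card H ≤ finrank ℂ V ∧
      LinearMap.trace ℂ V (avg π H) = (finrank ℂ V : ℂ) / Nat.card H ∧
      (finrank ℂ (LinearMap.range (avg π H)) : ℂ) = (finrank ℂ V : ℂ) / Nat.card H := by
  have htr : LinearMap.trace ℂ V (avg π H) = (finrank ℂ V : ℂ) / Nat.card H := by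
    rw [avg, map_smul, map_sum, Finset.sum_eq_single (1 : H)]
    · rw [Subgroup.coe_one, map_one, LinearMap.trace_one, smul_eq_mul, inv_mul_eq_div]
    · intro h _ hne
      refine trace_eq_zero hE hπ fun hc => hne (Subtype.ext ?_)
      exact (Subgroup.eq_bot_iff_forall _).1 hH _ ⟨h.2, hc⟩
    · simp
  have hproj : LinearMap.IsProj (LinearMap.range (avg π H)) (avg π H) :=
    ⟨fun v => ⟨v, rfl⟩, fun v hv => by
      obtain ⟨w, rfl⟩ := hv
      exact LinearMap.congr_fun (avg_mul_avg H) w⟩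
  have hfr : (finrank ℂ (LinearMap.range (avg π H)) : ℂ) = (finrank ℂ V : ℂ) / Nat.card H := by
    rw [← hproj.trace, htr]
  refine ⟨?_, htr, hfr⟩
  have hH0 : (Nat.card H : ℂ) ≠ 0 := Nat.cast_ne_zero.2 Nat.card_pos.ne'
  have h : finrank ℂ (LinearMap.range (avg π H)) * Nat.card H = finrank ℂ V := by
    have h2 : ((finrank ℂ (LinearMap.range (avg π H)) * Nat.card H : ℕ) : ℂ) =
        ((finrank ℂ V : ℕ) : ℂ) := by
      push_cast
      rw [hfr, div_mul_cancel₀ _ hH0]
    exact_mod_cast h2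
  have hD : 0 < finrank ℂ V := Nat.pos_of_ne_zero fun h0 => finrank_ne_zero hE hπ (by simp [h0])
  rw [← h] at hD ⊢
  exact Nat.le_mul_of_pos_left _ (Nat.pos_of_mul_pos_right hD)

/-- A compression to a line is a scalar. -/
theorem exists_compress {p : Module.End ℂ V} (hp : p * p = p)
    (h1 : finrank ℂ (LinearMap.range p) = 1) (M : Module.End ℂ V) :
    ∃ a : ℂ, p * M * p = a • p := by
  obtain ⟨⟨v, hv⟩, -, hgen⟩ := finrank_eq_one_iff'.1 h1
  obtain ⟨a, ha⟩ := hgen ⟨p (M v), ⟨M v, rfl⟩⟩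
  refine ⟨a, LinearMap.ext fun w => ?_⟩
  obtain ⟨t, ht⟩ := hgen ⟨p w, ⟨w, rfl⟩⟩
  have ha' : a • v = p (M v) := congrArg Subtype.val ha
  have ht' : t • v = p w := congrArg Subtype.val ht
  show p (M (p w)) = a • p w
  rw [← ht', map_smul, map_smul, ← ha', smul_comm]

theorem lift_of_lagrangian (hE : IsExtraspecial 2 E) [π.IsIrreducible] (hπ : Spin π)
    (σ : S →* MulAut E) (U₁ U₂ : Subgroup E)
    (h₁ : U₁ ⊓ Subgroup.center E = ⊥) (h₂ : U₂ ⊓ Subgroup.center E = ⊥)
    (hgen : ∀ x, ∃ u ∈ U₁, ∃ w ∈ U₂, ∃ c ∈ Subgroup.center E, x = u * w * c)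
    (hperm : ∀ s, (U₁.map (σ s).toMonoidHom = U₁ ∧ U₂.map (σ s).toMonoidHom = U₂) ∨
      (U₁.map (σ s).toMonoidHom = U₂ ∧ U₂.map (σ s).toMonoidHom = U₁)) :
    ∃ P, Lifts π σ P := by
  classical
  haveI := Fintype.ofFinite U₁
  haveI := Fintype.ofFinite U₂
  obtain ⟨hle₁, htr₁, hfr₁⟩ := card_le_and_trace hE hπ U₁ h₁
  obtain ⟨hle₂, -, -⟩ := card_le_and_trace hE hπ U₂ h₂
  set D := finrank ℂ V
  have hD0 : (D : ℂ) ≠ 0 := finrank_ne_zero hE hπ
  have hDp : 0 < D := Nat.pos_of_ne_zero fun h0 => hD0 (by simp [h0])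
  let F : U₁ × U₂ × Subgroup.center E → E := fun t => (t.1 : E) * t.2.1 * t.2.2
  have hsurj : Function.Surjective F := fun x => by
    obtain ⟨u, hu, w, hw, c, hc, rfl⟩ := hgen x
    exact ⟨(⟨u, hu⟩, ⟨w, hw⟩, ⟨c, hc⟩), rfl⟩
  have hcardle := Nat.card_le_card_of_surjective F hsurj
  rw [Nat.card_prod, Nat.card_prod, hE.2, card_eq hE hπ] at hcardle
  have hc1 : Nat.card U₁ = D := by nlinarith
  have hc2 : Nat.card U₂ = D := by nlinarith
  have hinj : Function.Injective F := (hsurj.bijective_of_nat_card_le (by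
    rw [Nat.card_prod, Nat.card_prod, hE.2, card_eq hE hπ, hc1, hc2]; exact le_of_eq (by ring))).1
  set p₁ := avg π U₁ with hp₁
  set p₂ := avg π U₂ with hp₂
  have hidem₁ : p₁ * p₁ = p₁ := avg_mul_avg U₁
  have hidem₂ : p₂ * p₂ = p₂ := avg_mul_avg U₂
  rw [hc1, div_self hD0] at hfr₁ htr₁
  have hline₁ : finrank ℂ (LinearMap.range p₁) = 1 := by exact_mod_cast hfr₁
  have hline₂ : finrank ℂ (LinearMap.range p₂) = 1 := by
    obtain ⟨-, -, h⟩ := card_le_and_trace hE hπ U₂ h₂
    rw [hc2, div_self hD0] at h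
    exact_mod_cast h
  have htr12 : LinearMap.trace ℂ V (p₁ * p₂) = (D : ℂ)⁻¹ := by
    simp only [hp₁, hp₂, avg, smul_mul_assoc, mul_smul_comm, Finset.sum_mul, Finset.mul_sum,
      map_smul, map_sum, ← map_mul, smul_eq_mul]
    rw [Finset.sum_comm]
    simp only [← Finset.mul_sum]
    rw [Finset.sum_eq_single (1 : U₁), Finset.sum_eq_single (1 : U₂)]
    · rw [Subgroup.coe_one, Subgroup.coe_one, one_mul, map_one, LinearMap.trace_one, hc1, hc2]
      show (D : ℂ)⁻¹ * ((D : ℂ)⁻¹ * (D : ℂ)) = _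
      rw [inv_mul_cancel₀ hD0, mul_one]
    · intro w _ hw
      refine trace_eq_zero hE hπ fun hc => hw ?_
      have := hinj (a₁ := ((1 : U₁), w, 1))
        (a₂ := ((1 : U₁), 1, ⟨_, hc⟩)) (by simp [F])
      exact congrArg (fun t => t.2.1) this
    · simp
    · intro u _ hu
      refine Finset.sum_eq_zero fun w _ => trace_eq_zero hE hπ fun hc => hu ?_
      have := hinj (a₁ := (u, w, 1)) (a₂ := ((1 : U₁), 1, ⟨_, hc⟩)) (by simp [F])
      exact congrArg (fun t => t.1) this
    · simp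
  have hne21 : p₂ * p₁ ≠ 0 := fun h => inv_ne_zero hD0 (by
    rw [← htr12, LinearMap.trace_mul_comm ℂ, h, map_zero])
  have hp₁0 : p₁ ≠ 0 := fun h => hne21 (by rw [h, mul_zero])
  -- the stabiliser of the pair
  let C : Subgroup S :=
    { carrier := {s | U₁.map (σ s).toMonoidHom = U₁ ∧ U₂.map (σ s).toMonoidHom = U₂}
      one_mem' := by
        simp only [Set.mem_setOf_eq, map_one]
        exact ⟨Subgroup.map_id U₁, Subgroup.map_id U₂⟩
      mul_mem' := fun {x y} hx hy => by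
        simp only [Set.mem_setOf_eq, map_mul] at hx hy ⊢
        refine ⟨?_, ?_⟩
        · rw [show (σ x * σ y).toMonoidHom = (σ x).toMonoidHom.comp (σ y).toMonoidHom from rfl,
            ← Subgroup.map_map, hy.1, hx.1]
        · rw [show (σ x * σ y).toMonoidHom = (σ x).toMonoidHom.comp (σ y).toMonoidHom from rfl,
            ← Subgroup.map_map, hy.2, hx.2]
      inv_mem' := fun {x} hx => by
        simp only [Set.mem_setOf_eq, map_inv] at hx ⊢
        have hcomp : (σ x)⁻¹.toMonoidHom.comp (σ x).toMonoidHom = MonoidHom.id E :=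
          MonoidHom.ext fun e => MulAut.inv_apply_self E (σ x) e
        refine ⟨?_, ?_⟩
        · conv_lhs => rw [← hx.1, Subgroup.map_map, hcomp, Subgroup.map_id]
        · conv_lhs => rw [← hx.2, Subgroup.map_map, hcomp, Subgroup.map_id] }
  have hex : ∀ c : C, ∃ R, Intertwines π (σ (c : S)) R ∧ (R : Module.End ℂ V) * p₁ = p₁ := by
    intro c
    obtain ⟨R, hR⟩ := exists_intertwiner hE hπ (σ (c : S))
    obtain ⟨a, ha⟩ := exists_compress hidem₁ hline₁ (R : Module.End ℂ V)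
    have hRp : (R : Module.End ℂ V) * p₁ = a • p₁ := by
      rw [← ha, hp₁, ← intertwines_avg hR U₁ U₁ c.2.1, mul_assoc, avg_mul_avg]
    have ha0 : a ≠ 0 := fun h => hp₁0 (R.mul_right_eq_zero.1 (by rw [hRp, h, zero_smul]))
    refine ⟨R * Clifford.scalarUnit V (Units.mk0 a ha0)⁻¹, hR.mul_scalar _, ?_⟩
    rw [Units.val_mul, Clifford.coe_scalarUnit, mul_assoc, ← Algebra.smul_def, mul_smul_comm, hRp,
      smul_smul, Units.val_inv_eq_inv_val, Units.val_mk0, inv_mul_cancel₀ ha0, one_smul]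
  choose Pf hPf hPf1 using hex
  have huniq : ∀ {f : MulAut E} {X Y : (Module.End ℂ V)ˣ} {p : Module.End ℂ V}, p ≠ 0 →
      Intertwines π f X → Intertwines π f Y → (X : Module.End ℂ V) * p = p →
      (Y : Module.End ℂ V) * p = p → Y = X := by
    intro f X Y p hp hX hY h1 h2
    obtain ⟨ν, rfl⟩ := exists_scalar_of_intertwines hX hY
    rw [Units.val_mul, Clifford.coe_scalarUnit, mul_assoc, ← Algebra.smul_def, mul_smul_comm,
      h1] at h2
    have hν : ν = 1 := Units.ext (smul_left_injective ℂ hp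
      (show (ν : ℂ) • p = (1 : ℂ) • p by rw [h2, one_smul]))
    rw [hν, map_one, mul_one]
  have hPmul : ∀ x y : C, Pf (x * y) = Pf x * Pf y := fun x y =>
    huniq hp₁0 (by rw [Subgroup.coe_mul, map_mul]; exact (hPf x).mul (hPf y)) (hPf _)
      (by rw [Units.val_mul, mul_assoc, hPf1, hPf1]) (hPf1 _)
  let P : C →* (Module.End ℂ V)ˣ := MonoidHom.mk' Pf hPmul
  by_cases hall : ∀ s, s ∈ C
  · refine ⟨P.comp ((MonoidHom.id S).codRestrict C hall), fun s => ?_⟩
    exact hPf ⟨s, hall s⟩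
  push Not at hall
  obtain ⟨g, hg⟩ := hall
  have hswap : U₁.map (σ g).toMonoidHom = U₂ ∧ U₂.map (σ g).toMonoidHom = U₁ :=
    (hperm g).resolve_left hg
  have htwo : ∀ s, s ∈ C ∨ s * g⁻¹ ∈ C := by
    intro s
    rcases hperm s with h | h
    · exact Or.inl h
    · right
      have hcomp : ∀ t : S, (σ (t * g⁻¹)).toMonoidHom.comp (σ g).toMonoidHom = (σ t).toMonoidHom :=
        fun t => MonoidHom.ext fun e => by simp
      refine ⟨?_, ?_⟩
      · conv_lhs => rw [← hswap.2, Subgroup.map_map, hcomp, h.2]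
      · conv_lhs => rw [← hswap.1, Subgroup.map_map, hcomp, h.1]
  haveI := normal_of_two C g hg htwo
  refine lift_of_step hE hπ σ C P hPf g (sup_zpowers_eq_top C g htwo) fun R hR c c' hcc => ?_
  have hconv : (R : Module.End ℂ V) * p₁ = p₂ * R := intertwines_avg hR U₁ U₂ hswap.1
  have hp₂0 : p₂ ≠ 0 := fun h => hne21 (by rw [h, zero_mul])
  have hfix₂ : (Pf c' : Module.End ℂ V) * p₂ = p₂ := by
    obtain ⟨b, hb⟩ := exists_compress hidem₂ hline₂ (Pf c' : Module.End ℂ V)
    have hcm : (Pf c' : Module.End ℂ V) * p₂ = p₂ * Pf c' := intertwines_avg (hPf c') U₂ U₂ c'.2.2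
    have hbp : (Pf c' : Module.End ℂ V) * p₂ = b • p₂ := by
      rw [← hb, ← hcm, mul_assoc, hidem₂]
    have h3 : b • (p₂ * p₁) = (1 : ℂ) • (p₂ * p₁) := by
      rw [← smul_mul_assoc, ← hbp, hcm, mul_assoc, hPf1, one_smul]
    rw [hbp, smul_left_injective ℂ hne21 h3, one_smul]
  refine (huniq hp₂0 (hPf c') ?_ hfix₂ ?_).symm
  · rw [hcc]
    simp only [map_mul, map_inv]
    exact (hR.mul (hPf c)).mul hR.inv
  · have hinv : ((R⁻¹ : (Module.End ℂ V)ˣ) : Module.End ℂ V) * p₂ = p₁ * (R⁻¹ : (Module.End ℂ V)ˣ) := by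
      have h := congrArg
        (fun M => ((R⁻¹ : (Module.End ℂ V)ˣ) : Module.End ℂ V) * M * ((R⁻¹ : (Module.End ℂ V)ˣ) : Module.End ℂ V)) hconv
      simpa [mul_assoc] using h.symm
    show ((R * Pf c * R⁻¹ : (Module.End ℂ V)ˣ) : Module.End ℂ V) * p₂ = p₂
    rw [Units.val_mul, Units.val_mul, mul_assoc, hinv, ← mul_assoc, mul_assoc _ _ p₁, hPf1, hconv,
      mul_assoc, Units.mul_inv, mul_one]

end Cfsg.Agent.SpinExt
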