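import Mathlib
import Cfsg.Agent.Lib.PGroup.ExtraspecialSub
import Cfsg.Agent.Lib.TI.Extraspecial
import Cfsg.Agent.Lib.SpinExt.Center
import Cfsg.Agent.Lib.SpinExt.Extend

/-!
# Orthogonal splittings of an extraspecial 2-group stable under an action

* `eigen`: the preimage of the image of an idempotent of the quadratic space.
* `Step`: the statement proved by induction on the order of the group.
* `hasLift_of_split`: a self-adjoint central idempotent `f`, with `{f, 1 + f}` stable, reduces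
  the lifting to the two orthogonal factors.
-/

set_option autoImplicit false
set_option linter.style.haveILetI false
set_option linter.unusedSectionVars false

namespace Cfsg.Agent.SpinExt

open Cfsg.Agent.PGroup Cfsg.Agent.PGroup.TwoOut Representation Module
open scoped commutatorElement

universe u

/-- Actions of 2-groups normalising an odd fixed-point-free group lift. -/
def Step (E : Type u) [Group E] : Prop :=
  ∀ (S : Type u) [Group S] [Finite S], IsPGroup 2 S →
    ∀ (σ : S →* MulAut E) (K : Subgroup (MulAut E)), Odd (Nat.card K) →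
      (∀ (s : S), ∀ k ∈ K, σ s * k * (σ s)⁻¹ ∈ K) →
      (∀ e, (∀ k ∈ K, k e * e⁻¹ ∈ Subgroup.center E) → e ∈ Subgroup.center E) → HasLift σ

section Res

variable {E : Type u} [Group E]

/-- Automorphisms stabilising a subgroup. -/
def autStab (A : Subgroup E) : Subgroup (MulAut E) where
  carrier := {g | ∀ x, g x ∈ A ↔ x ∈ A}
  one_mem' := fun x => by rw [MulAut.one_apply]
  mul_mem' := fun {g g'} hg hg' x => by rw [MulAut.mul_apply]; exact (hg _).trans (hg' x)
  inv_mem' := fun {g} hg x => by rw [← hg (g⁻¹ x), MulAut.apply_inv_self]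

/-- Restriction of automorphisms. -/
def res (A : Subgroup E) : autStab A →* MulAut A where
  toFun g :=
    { toFun := fun a => ⟨(g : MulAut E) a, (g.2 a).2 a.2⟩
      invFun := fun a => ⟨(g : MulAut E)⁻¹ a, ((g⁻¹).2 a).2 a.2⟩
      left_inv := fun a => Subtype.ext (MulAut.inv_apply_self E g.1 (a : E))
      right_inv := fun a => Subtype.ext (MulAut.apply_inv_self E g.1 (a : E))
      map_mul' := fun a b => Subtype.ext (map_mul (g : MulAut E) (a : E) b) }
  map_one' := rfl
  map_mul' _ _ := rfl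

theorem res_apply (A : Subgroup E) (g : autStab A) (a : A) :
    ((res A g a : A) : E) = (g : MulAut E) a := rfl

end Res

variable {E : Type u} [Group E] [Finite E] {ι : Type} [Fintype ι] [DecidableEq ι]
variable {χ : E →* Multiplicative (ι → ZMod 2)} {q : (ι → ZMod 2) → ZMod 2}

local notation "W" => (ι → ZMod 2)

/-- The elements whose image is fixed by `f`. -/
def eigen (χ : E →* Multiplicative (ι → ZMod 2)) (f : Module.End (ZMod 2) W) : Subgroup E where
  carrier := {x | f (cls χ x) = cls χ x}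
  one_mem' := by simp [cls_one]
  mul_mem' := fun {x y} hx hy => by
    show f (cls χ (x * y)) = cls χ (x * y)
    rw [cls_mul, map_add, hx, hy]
  inv_mem' := fun {x} hx => by
    show f (cls χ x⁻¹) = cls χ x⁻¹
    rw [cls_inv]; exact hx

theorem mem_eigen {f : Module.End (ZMod 2) W} {x : E} :
    x ∈ eigen χ f ↔ f (cls χ x) = cls χ x := Iff.rfl

theorem one_add_idem {f : Module.End (ZMod 2) W} (hf : f * f = f) :
    (1 + f) * (1 + f) = 1 + f := by
  rw [add_mul, one_mul, mul_add, mul_one, hf, add_self_end, add_zero]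

theorem one_add_one_add (f : Module.End (ZMod 2) W) : 1 + (1 + f) = f := by
  rw [← add_assoc, add_self_end, zero_add]

theorem eq_of_add_eq_zero {x y : Module.End (ZMod 2) W} (hxy : x + y = 0) : x = y := by
  have := congrArg (· + y) hxy
  simpa [add_assoc, add_self_end] using this

variable (h : IsCoord χ q) (hE : IsExtraspecial 2 E)
include h hE

theorem center_le_eigen (f : Module.End (ZMod 2) W) : Subgroup.center E ≤ eigen χ f := fun c hc => by
  rw [mem_eigen, (cls_eq_zero h).2 hc, map_zero]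

theorem sec_mem_eigen {f : Module.End (ZMod 2) W} (hf : f * f = f) (v : W) :
    sec h (f v) ∈ eigen χ f := by
  rw [mem_eigen, cls_sec, ← Module.End.mul_apply, hf]

theorem exists_eigen_mul {f : Module.End (ZMod 2) W} (hf : f * f = f) (x : E) :
    ∃ a ∈ eigen χ f, ∃ b ∈ eigen χ (1 + f), x = a * b := by
  refine ⟨_, sec_mem_eigen h hE hf (cls χ x), (sec h (f (cls χ x)))⁻¹ * x, ?_,
    (mul_inv_cancel_left _ _).symm⟩
  rw [mem_eigen, cls_mul, cls_inv, cls_sec, LinearMap.add_apply, Module.End.one_apply, map_add,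
    ← Module.End.mul_apply, hf, add_self_vec, add_zero]

/-- The group of automorphisms commuting with `f` on the quadratic space. -/
noncomputable def commCent (f : Module.End (ZMod 2) W) : Subgroup (MulAut E) where
  carrier := {g | Commute f (act h hE g)}
  one_mem' := by
    show Commute f (act h hE 1)
    rw [act_one]; exact Commute.one_right f
  mul_mem' := fun {g g'} hg hg' => by
    show Commute f (act h hE (g * g'))
    rw [act_mul]; exact hg.mul_right hg'
  inv_mem' := fun {g} hg => by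
    show Commute f (act h hE g⁻¹)
    refine LinearMap.ext fun v => ?_
    have h1 := LinearMap.congr_fun hg.eq (act h hE g⁻¹ v)
    rw [Module.End.mul_apply, Module.End.mul_apply, act_act_inv] at h1
    rw [Module.End.mul_apply, Module.End.mul_apply, h1, act_inv_act]

theorem commCent_le_autStab (f : Module.End (ZMod 2) W) :
    commCent h hE f ≤ autStab (eigen χ f) := fun g hg x => by
  rw [mem_eigen, mem_eigen, ← act_cls h hE, ← Module.End.mul_apply, hg.eq, Module.End.mul_apply]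
  refine ⟨fun h1 => ?_, fun h1 => by rw [h1]⟩
  have := congrArg (act h hE g⁻¹) h1
  rwa [act_inv_act, act_inv_act] at this

theorem conjEnd_eq_iff (g : MulAut E) (f : Module.End (ZMod 2) W) :
    conjEnd h hE g f = f ↔ g ∈ commCent h hE f := by
  show act h hE g * f * act h hE g⁻¹ = f ↔ Commute f (act h hE g)
  constructor
  · intro h1
    show f * act h hE g = act h hE g * f
    conv_lhs => rw [← h1]
    rw [mul_assoc, ← act_mul, inv_mul_cancel, act_one, mul_one]
  · intro h1
    rw [← h1.eq, mul_assoc, ← act_mul, mul_inv_cancel, act_one, mul_one]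

theorem commute_eigen {f : Module.End (ZMod 2) W} (hf : f * f = f) (hfa : Adj q f f) {a b : E}
    (ha : a ∈ eigen χ f) (hb : b ∈ eigen χ (1 + f)) : a * b = b * a := by
  rw [← frm_eq_zero_iff_commute h hE, ← mem_eigen.1 ha, ← mem_eigen.1 hb, hfa,
    ← Module.End.mul_apply, mul_add, mul_one, hf, add_self_end, LinearMap.zero_apply, frm_comm h,
    frm_zero_left h hE]

theorem eigen_extraspecial {f : Module.End (ZMod 2) W} (hf : f * f = f) (hfa : Adj q f f)
    (hf0 : f ≠ 0) : IsExtraspecial 2 (eigen χ f) ∧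
      ∀ a : eigen χ f, a ∈ Subgroup.center (eigen χ f) ↔ (a : E) ∈ Subgroup.center E := by
  haveI : Fact (Nat.Prime 2) := ⟨Nat.prime_two⟩
  have htop : (Subgroup.center (⊤ : Subgroup E)).map (⊤ : Subgroup E).subtype =
      Subgroup.center E := by
    ext x
    rw [Subgroup.mem_map]
    constructor
    · rintro ⟨y, hy, rfl⟩
      exact Subgroup.mem_center_iff.2 fun g =>
        congrArg Subtype.val (Subgroup.mem_center_iff.1 hy ⟨g, Subgroup.mem_top g⟩)
    · intro hx
      exact ⟨⟨x, Subgroup.mem_top x⟩, Subgroup.mem_center_iff.2 fun g =>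
        Subtype.ext (Subgroup.mem_center_iff.1 hx g), rfl⟩
  have hcent : eigen χ f ⊓ Subgroup.centralizer (eigen χ f : Set E) ≤ Subgroup.center E := by
    rintro x ⟨hx, hxc⟩
    rw [← cls_eq_zero h]
    refine frm_nondeg h hE fun w => ?_
    rw [← mem_eigen.1 hx, hfa, ← cls_sec h (f w), frm_eq_zero_iff_commute h hE]
    exact (Subgroup.mem_centralizer_iff.1 hxc _ (sec_mem_eigen h hE hf w)).symm
  obtain ⟨h1, h2⟩ := isExtraspecial_of_le (Q := (⊤ : Subgroup E)) (H := eigen χ f)
    (TI.isExtraspecial_congr Subgroup.topEquiv.symm hE) le_top (htop.symm ▸ hcent)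
    (fun hle => hf0 (LinearMap.ext fun v => by
      rw [LinearMap.zero_apply, ← cls_sec h (f v), cls_eq_zero h]
      exact hcent ⟨sec_mem_eigen h hE hf v, hle (sec_mem_eigen h hE hf v)⟩))
  refine ⟨h1, fun a => ?_⟩
  rw [← Subgroup.mem_map_iff_mem (eigen χ f).subtype_injective, h2, htop]
  rfl

variable {S : Type u} [Group S] [Finite S] (σ : S →* MulAut E) (K : Subgroup (MulAut E))
variable (ih : ∀ (E' : Type u) [Group E'] [Finite E'], Nat.card E' < Nat.card E →
  IsExtraspecial 2 E' → Step E')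
variable {V : Type} [AddCommGroup V] [Module ℂ V] [FiniteDimensional ℂ V]

include ih in
/-- The lift on one factor. -/
theorem lift_part (hS : IsPGroup 2 S) (hodd : Odd (Nat.card K))
    (hnorm : ∀ (s : S), ∀ k ∈ K, σ s * k * (σ s)⁻¹ ∈ K)
    (hfix : ∀ e, (∀ k ∈ K, k e * e⁻¹ ∈ Subgroup.center E) → e ∈ Subgroup.center E)
    {f : Module.End (ZMod 2) W} (hfZ : InZ h hE K f) (hf : f * f = f) (hfa : Adj q f f)
    (hf0 : f ≠ 0) (hf1 : f ≠ 1) (C : Subgroup S) (hC : ∀ c : C, σ c ∈ commCent h hE f)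
    (π : Representation ℂ E V) (hπ : Spin π) :
    ∃ P : C →* (Module.End ℂ V)ˣ,
      (∀ c : C, ∀ a ∈ eigen χ f, P c * U π a = U π (σ c a) * P c) ∧
      ∀ (c : C) (b : Module.End ℂ V),
        (∀ a ∈ eigen χ f, Commute b (π a)) → Commute b (P c : Module.End ℂ V) := by
  obtain ⟨hA, hcenA⟩ := eigen_extraspecial h hE hf hfa hf0
  have hlt : Nat.card (eigen χ f) < Nat.card E := by
    refine lt_of_le_of_ne (Nat.le_of_dvd Nat.card_pos (Subgroup.card_subgroup_dvd_card _))
      fun heq => hf1 (LinearMap.ext fun v => ?_)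
    have htop := Subgroup.eq_top_of_card_eq _ heq
    have hm : sec h v ∈ eigen χ f := htop ▸ Subgroup.mem_top _
    rwa [mem_eigen, cls_sec] at hm
  have hKst : K ≤ autStab (eigen χ f) := fun k hk =>
    commCent_le_autStab h hE f (hfZ.2 ⟨k, hk⟩)
  have hCst : ∀ c : C, σ c ∈ autStab (eigen χ f) := fun c => commCent_le_autStab h hE f (hC c)
  let σA : C →* MulAut (eigen χ f) :=
    (res _).comp ((σ.comp C.subtype).codRestrict _ hCst)
  let KA : Subgroup (MulAut (eigen χ f)) := (K.subgroupOf (autStab (eigen χ f))).map (res _)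
  have hKA : Odd (Nat.card KA) := hodd.of_dvd_nat
    ((Subgroup.card_map_dvd _ _).trans (dvd_of_eq (Nat.card_congr
      (Subgroup.subgroupOfEquivOfLe hKst).toEquiv)))
  have hnA : ∀ (c : C), ∀ k ∈ KA, σA c * k * (σA c)⁻¹ ∈ KA := by
    rintro c _ ⟨k, hk, rfl⟩
    refine ⟨⟨σ c, hCst c⟩ * k * ⟨σ c, hCst c⟩⁻¹, ?_, by rw [map_mul, map_mul, map_inv]; rfl⟩
    exact hnorm c k hk
  have hfA : ∀ a : eigen χ f, (∀ k ∈ KA, k a * a⁻¹ ∈ Subgroup.center (eigen χ f)) →
      a ∈ Subgroup.center (eigen χ f) := fun a ha => by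
    rw [hcenA]
    exact hfix _ fun k hk => (hcenA _).1 (ha _ ⟨⟨k, hKst hk⟩, hk, rfl⟩)
  obtain ⟨P, hP, hin⟩ := ih _ hlt hA C (hS.to_subgroup C) σA KA hKA hnA hfA V
    (π.comp (eigen χ f).subtype) fun c hc hc1 => hπ _ ((hcenA c).1 hc) fun h1 => hc1 (Subtype.ext h1)
  exact ⟨P, fun c a ha => hP c ⟨a, ha⟩, fun c b hb => hin c b fun a => hb a a.2⟩

/-- Commuting lifts on the two factors multiply to a lift. -/
theorem exists_mul_lift {f : Module.End (ZMod 2) W} (hf : f * f = f) (π : Representation ℂ E V)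
    (C : Subgroup S) (P₁ P₂ : C →* (Module.End ℂ V)ˣ)
    (h₁ : ∀ c : C, ∀ a ∈ eigen χ f, P₁ c * U π a = U π (σ c a) * P₁ c)
    (h₂ : ∀ c : C, ∀ b ∈ eigen χ (1 + f), P₂ c * U π b = U π (σ c b) * P₂ c)
    (hc₁ : ∀ c : C, ∀ b ∈ eigen χ (1 + f), Commute (P₁ c) (U π b))
    (hc₂ : ∀ c : C, ∀ a ∈ eigen χ f, Commute (P₂ c) (U π a))
    (hcomm : ∀ c d : C, Commute (P₁ c) (P₂ d))
    (hC : ∀ c : C, σ c ∈ commCent h hE f) :
    ∃ P : C →* (Module.End ℂ V)ˣ, (∀ c, P c = P₁ c * P₂ c) ∧
      ∀ c : C, Intertwines π (σ c) (P c) := by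
  refine ⟨MonoidHom.mk' (fun c => P₁ c * P₂ c) fun c d => by
    rw [map_mul, map_mul, mul_assoc, mul_assoc, ← mul_assoc (P₁ d), (hcomm d c).eq, mul_assoc],
    fun c => rfl, fun c x => ?_⟩
  obtain ⟨a, ha, b, hb, rfl⟩ := exists_eigen_mul h hE hf x
  have hσa : σ c a ∈ eigen χ f := (commCent_le_autStab h hE f (hC c) a).2 ha
  show P₁ c * P₂ c * U π (a * b) = U π (σ c (a * b)) * (P₁ c * P₂ c)
  rw [map_mul (U π), map_mul (σ c), map_mul (U π), mul_assoc, ← mul_assoc (P₂ c),
    (hc₂ c a ha).eq, mul_assoc (U π a), h₂ c b hb, ← mul_assoc (P₁ c), h₁ c a ha, mul_assoc,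
    ← mul_assoc (P₁ c), (hc₁ c _ ?_).eq, mul_assoc, mul_assoc]
  have h3 := (commCent_le_autStab h hE (1 + f) (show σ c ∈ commCent h hE (1 + f) from
    (Commute.one_left _).add_left (hC c)) b).2 hb
  exact h3

include ih in
/-- A stable orthogonal splitting reduces the lifting to the factors. -/
theorem hasLift_of_split (hS : IsPGroup 2 S) (hodd : Odd (Nat.card K))
    (hnorm : ∀ (s : S), ∀ k ∈ K, σ s * k * (σ s)⁻¹ ∈ K)
    (hfix : ∀ e, (∀ k ∈ K, k e * e⁻¹ ∈ Subgroup.center E) → e ∈ Subgroup.center E)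
    {f : Module.End (ZMod 2) W} (hfZ : InZ h hE K f) (hf : f * f = f) (hfa : Adj q f f)
    (hf0 : f ≠ 0) (hf1 : f ≠ 1)
    (hperm : ∀ s, conjEnd h hE (σ s) f = f ∨ conjEnd h hE (σ s) f = 1 + f) : HasLift σ := by
  refine hasLift_of_model hE σ fun V _ _ _ π _ hπ => ?_
  have hgZ := inZ_add h hE K (inZ_one h hE K) hfZ
  have hg := one_add_idem hf
  have hga : Adj q (1 + f) (1 + f) := adj_add h hE (adj_one h) hfa
  have hg0 : 1 + f ≠ 0 := fun h0 => hf1 (eq_of_add_eq_zero h0).symm
  have hg1 : 1 + f ≠ 1 := fun h1 => hf0 (add_eq_left.1 h1)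
  have hcomAB : ∀ a ∈ eigen χ f, ∀ b ∈ eigen χ (1 + f), Commute (π a) (π b) := fun a ha b hb => by
    show π a * π b = π b * π a
    rw [← map_mul, ← map_mul, commute_eigen h hE hf hfa ha hb]
  let C : Subgroup S := (commCent h hE f).comap σ
  have hC : ∀ c : C, σ c ∈ commCent h hE f := fun c => c.2
  have hC' : ∀ c : C, σ c ∈ commCent h hE (1 + f) := fun c => (Commute.one_left _).add_left (hC c)
  obtain ⟨P₁, h₁, hin₁⟩ := lift_part h hE σ K ih hS hodd hnorm hfix hfZ hf hfa hf0 hf1 C hC π hπ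
  have hc₁ : ∀ c : C, ∀ b ∈ eigen χ (1 + f), Commute (P₁ c) (U π b) := fun c b hb =>
    (Units.ext (hin₁ c _ fun a ha => (hcomAB a ha b hb).symm).eq : U π b * P₁ c = P₁ c * U π b).symm
  by_cases hall : ∀ s, s ∈ C
  · obtain ⟨P₂, h₂, hin₂⟩ :=
      lift_part h hE σ K ih hS hodd hnorm hfix hgZ hg hga hg0 hg1 C hC' π hπ
    have hc₂ : ∀ c : C, ∀ a ∈ eigen χ f, Commute (P₂ c) (U π a) := fun c a ha =>
      (Units.ext (hin₂ c _ fun b hb => hcomAB a ha b hb).eq : U π a * P₂ c = P₂ c * U π a).symm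
    have hcomm : ∀ c d : C, Commute (P₁ c) (P₂ d) := fun c d => Units.ext
      (hin₂ d _ fun b hb => congrArg Units.val (hc₁ c b hb).eq).eq
    obtain ⟨P, -, hP⟩ := exists_mul_lift h hE σ hf π C P₁ P₂ h₁ h₂ hc₁ hc₂ hcomm hC
    exact ⟨P.comp ((MonoidHom.id S).codRestrict C hall), fun s => hP ⟨s, hall s⟩⟩
  · push Not at hall
    obtain ⟨g, hgC⟩ := hall
    have hswap : ∀ s, s ∉ C → conjEnd h hE (σ s) f = 1 + f := fun s hs =>
      (hperm s).resolve_left fun h1 => hs ((conjEnd_eq_iff h hE _ f).1 h1)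
    have hswap' : conjEnd h hE (σ g)⁻¹ f = 1 + f := by
      rw [← map_inv]
      exact hswap g⁻¹ fun h1 => hgC (inv_mem_iff.1 h1)
    have htwo : ∀ s, s ∈ C ∨ s * g⁻¹ ∈ C := fun s => by
      refine or_iff_not_imp_left.2 fun hs => ?_
      show σ (s * g⁻¹) ∈ commCent h hE f
      rw [← conjEnd_eq_iff, map_mul, map_inv, ← conjEnd_conjEnd, hswap', conjEnd_add,
        conjEnd_one', hswap s hs, one_add_one_add]
    haveI : C.Normal := normal_of_two C g hgC htwo
    have hsq : g * g ∈ C := by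
      rcases htwo (g * g) with h1 | h1
      · exact h1
      · exact absurd (by simpa using h1) hgC
    obtain ⟨R, hR⟩ := exists_intertwiner hE hπ (σ g)
    -- the second factor is the conjugate of the first
    let ρ : C →* C :=
      { toFun := fun c => ⟨g⁻¹ * c * g, by
          simpa using Subgroup.Normal.conj_mem (inferInstance : C.Normal) _ c.2 g⁻¹⟩
        map_one' := by ext; simp
        map_mul' := fun c d => by ext; simp [mul_assoc] }
    let P₂ : C →* (Module.End ℂ V)ˣ := (MulAut.conj R).toMonoidHom.comp (P₁.comp ρ)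
    have hP₂ : ∀ c, P₂ c = R * P₁ (ρ c) * R⁻¹ := fun c => rfl
    have hmapB : ∀ b ∈ eigen χ (1 + f), (σ g)⁻¹ b ∈ eigen χ f := fun b hb => by
      have h2 : conjEnd h hE (σ g)⁻¹ (1 + f) = f := by
        rw [conjEnd_add, conjEnd_one', hswap', one_add_one_add]
      rw [mem_eigen] at hb ⊢
      conv_lhs => arg 1; rw [← h2]
      rw [← act_cls h hE, conjEnd, inv_inv, Module.End.mul_apply, Module.End.mul_apply,
        act_act_inv, hb]
    have hmapA : ∀ a ∈ eigen χ f, (σ g)⁻¹ a ∈ eigen χ (1 + f) := fun a ha => by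
      rw [mem_eigen] at ha ⊢
      conv_lhs => arg 1; rw [← hswap']
      rw [← act_cls h hE, conjEnd, inv_inv, Module.End.mul_apply, Module.End.mul_apply,
        act_act_inv, ha]
    have hRinv : ∀ x, U π x = R * U π ((σ g)⁻¹ x) * R⁻¹ := fun x => by
      rw [hR, MulAut.apply_inv_self, mul_inv_cancel_right]
    have h₂ : ∀ c : C, ∀ b ∈ eigen χ (1 + f), P₂ c * U π b = U π (σ c b) * P₂ c := by
      intro c b hb
      have h3 : (σ g)⁻¹ (σ c b) = σ (ρ c) ((σ g)⁻¹ b) := by
        show (σ g)⁻¹ (σ c b) = σ (g⁻¹ * c * g) ((σ g)⁻¹ b)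
        rw [map_mul, map_mul, map_inv]
        simp [MulAut.mul_apply, MulAut.apply_inv_self]
      calc P₂ c * U π b = R * (P₁ (ρ c) * U π ((σ g)⁻¹ b)) * R⁻¹ := by
            rw [hP₂, hRinv b]; group
        _ = R * (U π ((σ g)⁻¹ (σ c b)) * P₁ (ρ c)) * R⁻¹ := by
            rw [h₁ _ _ (hmapB b hb), h3]
        _ = U π (σ c b) * P₂ c := by rw [hP₂, hRinv (σ c b)]; group
    have hc₂ : ∀ c : C, ∀ a ∈ eigen χ f, Commute (P₂ c) (U π a) := fun c a ha => by
      rw [hP₂, hRinv a]
      exact (hc₁ _ _ (hmapA a ha)).map (MulAut.conj R).toMonoidHom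
    have hcomm : ∀ c d : C, Commute (P₁ c) (P₂ d) := fun c d =>
      (Units.ext (hin₁ c _ fun a ha => congrArg Units.val (hc₂ d a ha).eq).eq :
        P₂ d * P₁ c = P₁ c * P₂ d).symm
    obtain ⟨P, hPeq, hP⟩ := exists_mul_lift h hE σ hf π C P₁ P₂ h₁ h₂ hc₁ hc₂ hcomm hC
    refine lift_of_step hE hπ σ C P hP g (sup_zpowers_eq_top C g htwo) fun R' hR' c c' hcc' => ?_
    obtain ⟨l, rfl⟩ := exists_scalar_of_intertwines hR hR'
    have hscal : ∀ X, R * Clifford.scalarUnit V l * X * (R * Clifford.scalarUnit V l)⁻¹ =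
        R * X * R⁻¹ := fun X => by
      rw [mul_inv_rev, mul_assoc R, Clifford.scalarUnit_comm]
      group
    have hρ : ρ c' = c := Subtype.ext (by
      show g⁻¹ * (c' : S) * g = c
      rw [hcc']; group)
    obtain ⟨l', hl'⟩ := exists_scalar_of_intertwines
      (show Intertwines π (σ (g * g)) (P ⟨g * g, hsq⟩) from hP ⟨g * g, hsq⟩)
      (show Intertwines π (σ (g * g)) (R * R) by rw [map_mul]; exact hR.mul hR)
    set γ : C := ⟨g * g, hsq⟩
    have hγ : γ * ρ c * γ⁻¹ = c' := Subtype.ext (by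
      show g * g * (g⁻¹ * (c : S) * g) * (g * g)⁻¹ = c'
      rw [hcc']; group)
    have hkey : R * P₂ c * R⁻¹ = P₁ c' := by
      calc R * P₂ c * R⁻¹ = (R * R) * P₁ (ρ c) * (R * R)⁻¹ := by rw [hP₂]; group
        _ = P γ * P₁ (ρ c) * (P γ)⁻¹ := by
            rw [hl', mul_inv_rev, mul_assoc (P γ), Clifford.scalarUnit_comm]; group
        _ = P₁ γ * P₁ (ρ c) * (P₁ γ)⁻¹ := by
            rw [hPeq, mul_inv_rev, mul_assoc (P₁ γ), ((hcomm (ρ c) γ).symm).eq]; group
        _ = P₁ c' := by rw [← map_inv, ← map_mul, ← map_mul, hγ]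
    rw [hscal, hPeq, hPeq, ← hkey, hP₂ c', hρ, (hcomm c c).eq]
    group

end Cfsg.Agent.SpinExt
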