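import Mathlib
import Cfsg.Agent.Lib.SpinExt.Split
import Cfsg.Agent.Lib.SpinExt.Lagrangian
import Cfsg.Agent.Lib.SpinExt.Cyclic

/-!
# Lifting actions in spin representations: the induction

* `exists_stable_idempotent`: a non-trivial self-adjoint central idempotent can be chosen with
  `{f, 1 + f}` stable under a 2-group of operators.
* `exists_lagrangians`: an idempotent with adjoint complement gives two lagrangian subgroups.
* `hasLift_main`: a 2-group of automorphisms normalising an odd fixed-point-free group of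
  automorphisms of an extraspecial 2-group lifts in every spin representation.
-/

set_option autoImplicit false
set_option linter.style.haveILetI false
set_option linter.unusedSectionVars false

namespace Cfsg.Agent.SpinExt

open Cfsg.Agent.PGroup Cfsg.Agent.PGroup.TwoOut Representation Module
open scoped commutatorElement

universe u

variable {E : Type u} [Group E] [Finite E] {ι : Type} [Fintype ι] [DecidableEq ι]
variable {χ : E →* Multiplicative (ι → ZMod 2)} {q : (ι → ZMod 2) → ZMod 2}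
variable (h : IsCoord χ q) (hE : IsExtraspecial 2 E) (K : Subgroup (MulAut E))
variable {S : Type u} [Group S] [Finite S] (σ : S →* MulAut E)

local notation "W" => (ι → ZMod 2)

include h hE

theorem inZ_conj_sigma (hnorm : ∀ (s : S), ∀ k ∈ K, σ s * k * (σ s)⁻¹ ∈ K) (s : S)
    {x : Module.End (ZMod 2) W} (hx : InZ h hE K x) : InZ h hE K (conjEnd h hE (σ s) x) :=
  inZ_conjEnd h hE K (hnorm s) (fun k hk => by simpa using hnorm s⁻¹ k hk) hx

theorem exists_stable_idempotent (hS : IsPGroup 2 S)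
    (hnorm : ∀ (s : S), ∀ k ∈ K, σ s * k * (σ s)⁻¹ ∈ K)
    {f₀ : Module.End (ZMod 2) W} (hZ : InZ h hE K f₀) (hf : f₀ * f₀ = f₀) (hfa : Adj q f₀ f₀)
    (h0 : f₀ ≠ 0) (h1 : f₀ ≠ 1) :
    ∃ f, InZ h hE K f ∧ f * f = f ∧ Adj q f f ∧ f ≠ 0 ∧ f ≠ 1 ∧
      ∀ s, conjEnd h hE (σ s) f = f ∨ conjEnd h hE (σ s) f = 1 + f := by
  classical
  haveI : Fact (Nat.Prime 2) := ⟨Nat.prime_two⟩
  haveI : Finite (Module.End (ZMod 2) W) := Module.finite_of_finite (ZMod 2)
  let B : AddSubgroup (Module.End (ZMod 2) W) :=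
    { carrier := {f | InZ h hE K f ∧ f * f = f ∧ Adj q f f}
      zero_mem' := ⟨inZ_zero h hE K, mul_zero _, adj_zero h hE⟩
      add_mem' := fun {f g} hf hg => ⟨inZ_add h hE K hf.1 hg.1, by
        have hc := (inZ_commute h hE K hf.1 hg.1.1).eq
        rw [add_mul, mul_add, mul_add, hf.2.1, hg.2.1, ← hc]
        calc f + f * g + (f * g + g) = f + (f * g + f * g) + g := by abel
          _ = f + g := by rw [add_self_end, add_zero],
        adj_add h hE hf.2.2 hg.2.2⟩
      neg_mem' := fun {f} hf => by rw [neg_eq_of_add_eq_zero_left (add_self_end f)]; exact hf }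
  let one : B := ⟨1, inZ_one h hE K, mul_one _, adj_one h⟩
  have hone : one + one = 0 := Subtype.ext (add_self_end _)
  let N : AddSubgroup B :=
    { carrier := {0, one}
      zero_mem' := Or.inl rfl
      add_mem' := by
        rintro a b (rfl | rfl) (rfl | rfl) <;> simp [hone]
      neg_mem' := by
        rintro a (rfl | rfl) <;> simp [neg_eq_of_add_eq_zero_left hone] }
  let Φ : S → B →+ B := fun s => AddMonoidHom.mk'
    (fun x => ⟨conjEnd h hE (σ s) x.1, inZ_conj_sigma h hE K σ hnorm s x.2.1,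
      by rw [← conjEnd_mul, x.2.2.1], adj_conjEnd h hE (σ s) x.2.2.2⟩)
    fun x y => Subtype.ext (conjEnd_add h hE _ _ _)
  have hΦ1 : ∀ s, Φ s one = one := fun s => Subtype.ext (conjEnd_one' h hE _)
  have hΦN : ∀ s, N ≤ N.comap (Φ s) := fun s x hx => by
    rcases hx with rfl | rfl
    · exact Or.inl (map_zero _)
    · exact Or.inr (hΦ1 s)
  letI : MulAction S (B ⧸ N) :=
    { smul := fun s x => QuotientAddGroup.map N N (Φ s) (hΦN s) x
      one_smul := fun x => QuotientAddGroup.induction_on x fun b => by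
        show ((Φ 1 b : B) : B ⧸ N) = b
        congr 1
        exact Subtype.ext (by
          show conjEnd h hE (σ 1) b.1 = b.1
          rw [map_one, conjEnd_one])
      mul_smul := fun s t x => QuotientAddGroup.induction_on x fun b => by
        show ((Φ (s * t) b : B) : B ⧸ N) = ((Φ s (Φ t b) : B) : B ⧸ N)
        congr 1
        exact Subtype.ext (by
          show conjEnd h hE (σ (s * t)) b.1 = conjEnd h hE (σ s) (conjEnd h hE (σ t) b.1)
          rw [conjEnd_conjEnd, map_mul]) }
  let b₀ : B := ⟨f₀, hZ, hf, hfa⟩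
  have hb₀ : ((b₀ : B) : B ⧸ N) ≠ 0 := fun h2 => by
    rcases (QuotientAddGroup.eq_zero_iff b₀).1 h2 with h3 | h3
    · exact h0 (congrArg Subtype.val h3)
    · exact h1 (congrArg Subtype.val h3)
  have hQ : 2 ∣ Nat.card (B ⧸ N) := by
    obtain ⟨m, hm⟩ : ∃ m, Nat.card (Module.End (ZMod 2) W) = 2 ^ m :=
      ⟨_, (Module.natCard_eq_pow_finrank (K := ZMod 2)).trans (by rw [Nat.card_zmod])⟩
    have hd : Nat.card (B ⧸ N) ∣ 2 ^ m :=
      (AddSubgroup.card_quotient_dvd_card N).trans (hm ▸ AddSubgroup.card_addSubgroup_dvd_card B)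
    obtain ⟨j, -, hj⟩ := (Nat.dvd_prime_pow Nat.prime_two).1 hd
    rcases j with - | j
    · haveI : Subsingleton (B ⧸ N) := (Nat.card_eq_one_iff_unique.1 hj).1
      exact absurd (Subsingleton.elim _ _) hb₀
    · exact hj ▸ dvd_pow_self 2 j.succ_ne_zero
  have h0fix : (0 : B ⧸ N) ∈ MulAction.fixedPoints S (B ⧸ N) := fun s =>
    map_zero (QuotientAddGroup.map N N (Φ s) (hΦN s))
  obtain ⟨x, hx, hne⟩ := hS.exists_fixed_point_of_prime_dvd_card_of_fixed_point (B ⧸ N) hQ h0fix
  obtain ⟨b, rfl⟩ := QuotientAddGroup.mk_surjective x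
  have hbN : b ∉ N := fun h2 => hne ((QuotientAddGroup.eq_zero_iff b).2 h2).symm
  refine ⟨b.1, b.2.1, b.2.2.1, b.2.2.2, fun h2 => hbN (Or.inl (Subtype.ext h2)),
    fun h2 => hbN (Or.inr (Subtype.ext h2)), fun s => ?_⟩
  have h2 : -(Φ s b) + b ∈ N := QuotientAddGroup.eq.1 (hx s)
  rcases h2 with h3 | h3
  · exact Or.inl (congrArg Subtype.val (neg_add_eq_zero.1 h3))
  · refine Or.inr ?_
    have h4 : b = Φ s b + one := by rw [← h3, add_neg_cancel_left]
    have h5 : (b : Module.End (ZMod 2) W) = conjEnd h hE (σ s) b.1 + 1 := congrArg Subtype.val h4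
    conv_rhs => rw [h5]
    rw [add_comm (conjEnd h hE (σ s) b.1) 1, ← add_assoc, add_self_end, zero_add]

omit h hE in
/-- The generated candidate for a lagrangian subgroup. -/
def lag (χ : E →* Multiplicative (ι → ZMod 2)) (K : Subgroup (MulAut E))
    (f : Module.End (ZMod 2) W) : Subgroup E :=
  Subgroup.closure {y | ∃ k ∈ K, ∃ x ∈ eigen χ f, y = x⁻¹ * k x}

theorem mem_eigen_of_conjEnd {g : MulAut E} {f f' : Module.End (ZMod 2) W}
    (hff : conjEnd h hE g f = f') {x : E} (hx : x ∈ eigen χ f) : g x ∈ eigen χ f' := by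
  rw [mem_eigen, ← hff, ← act_cls h hE, conjEnd, Module.End.mul_apply, Module.End.mul_apply,
    act_inv_act, mem_eigen.1 hx]

theorem map_lag {g : MulAut E} {f f' : Module.End (ZMod 2) W} (hg : ∀ k ∈ K, g * k * g⁻¹ ∈ K)
    (hg' : ∀ k ∈ K, g⁻¹ * k * g ∈ K) (hff : conjEnd h hE g f = f') :
    (lag χ K f).map g.toMonoidHom = lag χ K f' := by
  have hff' : conjEnd h hE g⁻¹ f' = f := by
    rw [← hff, conjEnd_conjEnd, inv_mul_cancel, conjEnd_one]
  refine le_antisymm ?_ ?_
  · rw [lag, MonoidHom.map_closure, Subgroup.closure_le]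
    rintro _ ⟨_, ⟨k, hk, x, hx, rfl⟩, rfl⟩
    refine Subgroup.subset_closure ⟨_, hg k hk, g x, mem_eigen_of_conjEnd h hE hff hx, ?_⟩
    simp [MulAut.mul_apply]
  · rw [lag, Subgroup.closure_le]
    rintro _ ⟨k, hk, x, hx, rfl⟩
    refine ⟨(g⁻¹ x)⁻¹ * (g⁻¹ * k * g) (g⁻¹ x), Subgroup.subset_closure
      ⟨_, hg' k hk, g⁻¹ x, mem_eigen_of_conjEnd h hE hff' hx, rfl⟩, ?_⟩
    simp [MulAut.mul_apply]

variable (hodd : Odd (Nat.card K))
  (hfix : ∀ e, (∀ k ∈ K, k e * e⁻¹ ∈ Subgroup.center E) → e ∈ Subgroup.center E)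
include hodd

theorem lag_inf_center {f : Module.End (ZMod 2) W} (hf : f * f = f) (hZ : InZ h hE K f)
    (hadj : Adj q f (1 + f)) : lag χ K f ⊓ Subgroup.center E = ⊥ := by
  classical
  haveI := Fintype.ofFinite K
  haveI : Fact (Nat.Prime 2) := ⟨Nat.prime_two⟩
  have hab : ∀ a ∈ eigen χ f, ∀ b ∈ eigen χ f, a * b = b * a := fun a ha b hb => by
    rw [← frm_eq_zero_iff_commute h hE, ← mem_eigen.1 ha, ← mem_eigen.1 hb, hadj,
      ← Module.End.mul_apply, add_mul, one_mul, hf, add_self_end, LinearMap.zero_apply,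
      frm_comm h, frm_zero_left h hE]
  letI : CommGroup (eigen χ f) :=
    { (inferInstance : Group (eigen χ f)) with
      mul_comm := fun a b => Subtype.ext (hab a a.2 b b.2) }
  have hst : ∀ (k : K) (a : eigen χ f), (k : MulAut E) a ∈ eigen χ f := fun k a =>
    (commCent_le_autStab h hE f (hZ.2 k) a).2 a.2
  let lam : eigen χ f →* eigen χ f :=
    MonoidHom.mk' (fun a => ∏ k : K, ⟨(k : MulAut E) a, hst k a⟩) fun a b => by
      rw [← Finset.prod_mul_distrib]
      exact Finset.prod_congr rfl fun k _ => Subtype.ext (map_mul (k : MulAut E) (a : E) b)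
  have hker : lag χ K f ≤ lam.ker.map (eigen χ f).subtype := by
    rw [lag, Subgroup.closure_le]
    rintro _ ⟨k, hk, x, hx, rfl⟩
    let a : eigen χ f := ⟨x, hx⟩
    let b : eigen χ f := ⟨k x, hst ⟨k, hk⟩ a⟩
    refine ⟨a⁻¹ * b, ?_, rfl⟩
    show lam (a⁻¹ * b) = 1
    rw [map_mul, map_inv, inv_mul_eq_one]
    exact (Fintype.prod_equiv (Equiv.mulRight (⟨k, hk⟩ : K)) _ _ fun l => rfl).symm
  rw [eq_bot_iff]
  rintro x ⟨hx, hxc⟩
  obtain ⟨a, ha, rfl⟩ := hker hx
  have h2 : lam a = a := by
    show ∏ k : K, (⟨(k : MulAut E) a, hst k a⟩ : eigen χ f) = a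
    rw [Finset.prod_congr rfl fun (k : K) _ => (show (⟨(k : MulAut E) a, hst k a⟩ : eigen χ f) = a
        from Subtype.ext (aut_apply_center hE _ hxc)),
      Finset.prod_const, Finset.card_univ, ← Nat.card_eq_fintype_card]
    obtain ⟨t, ht⟩ := hodd
    have ha2 : a ^ 2 = 1 := Subtype.ext (by
      rw [Subgroup.coe_pow, Subgroup.coe_one]; exact special_center_pow hE.1 hxc)
    rw [ht, pow_succ, pow_mul, ha2, one_pow, one_mul]
  rw [Subgroup.mem_bot, show (eigen χ f).subtype a = (a : E) from rfl,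
    ← h2, show lam a = 1 from ha]
  rfl

include hfix

theorem exists_lag_mul {f : Module.End (ZMod 2) W} {x : E} (hx : x ∈ eigen χ f) :
    ∃ u ∈ lag χ K f, ∃ c ∈ Subgroup.center E, x = u * c := by
  classical
  haveI := Fintype.ofFinite K
  have hs : ∀ s : Finset K, ∃ y ∈ lag χ K f,
      cls χ y = ∑ k ∈ s, (cls χ x + act h hE (k : MulAut E) (cls χ x)) := fun s => by
    induction s using Finset.induction_on with
    | empty => exact ⟨1, Subgroup.one_mem _, by rw [cls_one, Finset.sum_empty]⟩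
    | @insert a s has ih =>
      obtain ⟨y, hy, hyc⟩ := ih
      refine ⟨x⁻¹ * (a : MulAut E) x * y, Subgroup.mul_mem _
        (Subgroup.subset_closure ⟨a, a.2, x, hx, rfl⟩) hy, ?_⟩
      rw [Finset.sum_insert has, cls_mul, cls_mul, cls_inv, act_cls, hyc]
  obtain ⟨y, hy, hyc⟩ := hs Finset.univ
  have h2 : cls χ y = cls χ x := by
    rw [hyc, Finset.sum_add_distrib, ← LinearMap.sum_apply, sum_act_eq_zero h hE K hfix,
      LinearMap.zero_apply, add_zero, Finset.sum_const, Finset.card_univ,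
      ← Nat.card_eq_fintype_card]
    obtain ⟨t, ht⟩ := hodd
    rw [ht, add_nsmul, one_nsmul, mul_nsmul, two_nsmul, add_self_vec, smul_zero, zero_add]
  exact ⟨y, hy, y⁻¹ * x, (cls_eq_iff h).1 h2, (mul_inv_cancel_left y x).symm⟩

/-- An idempotent with adjoint complement and stable pair: the action lifts. -/
theorem hasLift_of_hyperbolic (hnorm : ∀ (s : S), ∀ k ∈ K, σ s * k * (σ s)⁻¹ ∈ K)
    {f : Module.End (ZMod 2) W} (hf : f * f = f) (hZ : InZ h hE K f)
    (hadj : Adj q f (1 + f))
    (hperm : ∀ s, conjEnd h hE (σ s) f = f ∨ conjEnd h hE (σ s) f = 1 + f) : HasLift σ := by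
  refine hasLift_of_model hE σ fun V _ _ _ π _ hπ => ?_
  have hadj' : Adj q (1 + f) (1 + (1 + f)) := by
    rw [one_add_one_add]; exact adj_symm h hE hadj
  refine lift_of_lagrangian hE hπ σ (lag χ K f) (lag χ K (1 + f))
    (lag_inf_center h hE K hodd hf hZ hadj)
    (lag_inf_center h hE K hodd (one_add_idem hf) (inZ_add h hE K (inZ_one h hE K) hZ) hadj')
    (fun x => ?_) fun s => ?_
  · obtain ⟨a, ha, b, hb, rfl⟩ := exists_eigen_mul h hE hf x
    obtain ⟨u, hu, c, hc, rfl⟩ := exists_lag_mul h hE K hodd hfix ha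
    obtain ⟨w, hw, d, hd, rfl⟩ := exists_lag_mul h hE K hodd hfix hb
    refine ⟨u, hu, w, hw, c * d, Subgroup.mul_mem _ hc hd, ?_⟩
    rw [mul_assoc u c, ← mul_assoc c w, ← Subgroup.mem_center_iff.1 hc w]
    simp only [mul_assoc]
  · have hn' : ∀ k ∈ K, (σ s)⁻¹ * k * σ s ∈ K := fun k hk => by simpa using hnorm s⁻¹ k hk
    rcases hperm s with h2 | h2
    · exact Or.inl ⟨map_lag h hE K (hnorm s) hn' h2,
        map_lag h hE K (hnorm s) hn' (by rw [conjEnd_add, conjEnd_one', h2])⟩
    · exact Or.inr ⟨map_lag h hE K (hnorm s) hn' h2,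
        map_lag h hE K (hnorm s) hn' (by rw [conjEnd_add, conjEnd_one', h2, one_add_one_add])⟩

omit h hE hodd hfix

/-- **The lifting theorem.** -/
theorem hasLift_main : ∀ (N : ℕ) (E : Type u) [Group E] [Finite E], Nat.card E = N →
    IsExtraspecial 2 E → Step E := by
  intro N
  induction N using Nat.strong_induction_on with
  | _ N ih =>
    intro E _ _ hN hE S _ _ hS σ K hodd hnorm hfix
    classical
    haveI : Fact (Nat.Prime 2) := ⟨Nat.prime_two⟩
    obtain ⟨n, hn, hcard, -⟩ := extraspecial_card hE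
    obtain ⟨χ, w, h⟩ := exists_coord hE hcard
    haveI : Nonempty (Fin n ⊕ Fin n) := ⟨Sum.inl ⟨0, by omega⟩⟩
    have ih' : ∀ (E' : Type u) [Group E'] [Finite E'], Nat.card E' < Nat.card E →
        IsExtraspecial 2 E' → Step E' := fun E' _ _ hlt hE' => ih _ (hN ▸ hlt) E' rfl hE'
    by_cases hA : ∃ f, InZ h hE K f ∧ f * f = f ∧ Adj (QFormF2.formOf w) f f ∧ f ≠ 0 ∧ f ≠ 1
    · obtain ⟨f₀, hZ, hf, hfa, h0, h1⟩ := hA
      obtain ⟨f, hfZ, hff, hfa', hf0, hf1, hperm⟩ :=
        exists_stable_idempotent h hE K σ hS hnorm hZ hf hfa h0 h1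
      exact hasLift_of_split h hE σ K ih' hS hodd hnorm hfix hfZ hff hfa' hf0 hf1 hperm
    push Not at hA
    by_cases hB : ∃ f, InZ h hE K f ∧ f * f = f ∧ f ≠ 0 ∧ f ≠ 1
    · have hcompl : ∀ e, InZ h hE K e → e * e = e → e ≠ 0 → e ≠ 1 →
          Adj (QFormF2.formOf w) e (1 + e) := by
        intro e heZ he he0 he1
        obtain ⟨e', he'Z, hee'⟩ := exists_adj h hE K heZ
        have he' : e' * e' = e' := adj_unique h hE (by
          have := adj_mul h hee' hee'
          rwa [he] at this) hee'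
        have hc := (inZ_commute h hE K heZ he'Z.1).eq
        have hp : e * e' = 0 := by
          by_contra hne
          have := hA (e * e') (inZ_mul h hE K heZ he'Z) (by
            rw [mul_assoc, ← mul_assoc e' e, ← hc, mul_assoc, he', ← mul_assoc, he])
            (adj_mul h hee' (adj_symm h hE hee')) hne
          exact he1 (by rw [← mul_one e, ← this, ← mul_assoc, he])
        have hs : 1 + (e + e') = 0 := by
          by_contra hne
          have hsq : (1 + (e + e')) * (1 + (e + e')) = 1 + (e + e') := one_add_idem (by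
            rw [add_mul, mul_add, mul_add, he, he', ← hc, hp, add_zero, zero_add])
          have := hA _ (inZ_add h hE K (inZ_one h hE K) (inZ_add h hE K heZ he'Z)) hsq
            (adj_add h hE (adj_one h) (by
              have := adj_add h hE hee' (adj_symm h hE hee')
              rwa [add_comm e' e] at this)) hne
          have h2 : e = e' := eq_of_add_eq_zero (add_eq_left.1 this)
          exact he0 (by rw [← he]; nth_rewrite 2 [h2]; exact hp)
        have h3 : e' = 1 + e := by
          rw [← add_assoc] at hs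
          exact (eq_of_add_eq_zero hs).symm
        rwa [h3] at hee'
      obtain ⟨f, hfZ, hff, hf0, hf1⟩ := hB
      have hfa := hcompl f hfZ hff hf0 hf1
      refine hasLift_of_hyperbolic h hE K σ hodd hfix hnorm hff hfZ hfa fun s => ?_
      set g := conjEnd h hE (σ s) f with hg
      have hgZ : InZ h hE K g := inZ_conj_sigma h hE K σ hnorm s hfZ
      have hgg : g * g = g := by rw [hg, ← conjEnd_mul, hff]
      have hga : Adj (QFormF2.formOf w) g (1 + g) := by
        have := adj_conjEnd h hE (σ s) hfa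
        rwa [conjEnd_add, conjEnd_one'] at this
      have hc := (inZ_commute h hE K hfZ hgZ.1).eq
      have hp := adj_mul h hfa hga
      by_cases h2 : f * g = 0
      · refine Or.inr ?_
        rw [h2] at hp
        have h3 := adj_unique h hE hp (adj_zero h hE)
        rw [mul_add, mul_one, add_mul, one_mul, ← hc, h2, add_zero] at h3
        have h4 : 1 + f + g = 0 := by rw [← h3]; abel
        exact (eq_of_add_eq_zero h4).symm
      · refine Or.inl ?_
        have h1 : f * g ≠ 1 := fun h1 => hf1 (by rw [← mul_one f, ← h1, ← mul_assoc, hff])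
        have hidem : f * g * (f * g) = f * g := by
          rw [mul_assoc, ← mul_assoc g f, ← hc, mul_assoc, hgg, ← mul_assoc, hff]
        have h3 := adj_unique h hE hp (hcompl _ (inZ_mul h hE K hfZ hgZ) hidem h2 h1)
        rw [mul_add, mul_one, add_mul, one_mul, ← hc] at h3
        have h4 : g + f = 0 := by
          have h5 := congrArg (fun X => X + (1 + f * g)) h3
          simp only [add_self_end] at h5
          rw [← h5]
          calc g + f = g + f + ((1 + f * g) + (1 + f * g)) := by rw [add_self_end, add_zero]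
            _ = _ := by abel
        exact eq_of_add_eq_zero h4
    push Not at hB
    obtain ⟨r, a, hr, hr2, hord, hfpf, hnorma⟩ := exists_fpf_aut h hE K hodd hfix
      fun e heZ he => or_iff_not_imp_left.2 fun he0 => hB e heZ he he0
    refine hasLift_of_model hE σ fun V _ _ _ π _ hπ => ?_
    exact lift_of_fpf hE hπ σ hS a hr hr2 hord hfpf fun s =>
      hnorma (σ s) (hnorm s) fun k hk => by simpa using hnorm s⁻¹ k hk

end Cfsg.Agent.SpinExt
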