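import Mathlib
import Cfsg.Agent.Lib.Clifford.CoprimeExtension
import Cfsg.Agent.Lib.SpinExt.Reduce

/-!
# Extending the spin representation of a normal extraspecial 2-subgroup

* `exists_extension`: if `G = E H` with `E ∩ H = 1` and an odd normal subgroup `K` of `H` satisfies
  `[E, K] = E`, every irreducible spin representation of `E` extends to `G`.
-/

set_option autoImplicit false
set_option linter.style.haveILetI false
set_option linter.unusedSectionVars false

namespace Cfsg.Agent.SpinExt

open Representation Module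
open scoped commutatorElement

universe u

theorem isIrreducible_comp_surjective {A B : Type*} [Group A] [Group B] {V : Type*}
    [AddCommGroup V] [Module ℂ V] [FiniteDimensional ℂ V] (π : Representation ℂ B V)
    [π.IsIrreducible] (f : A →* B) (hf : Function.Surjective f) :
    Representation.IsIrreducible (π.comp f) := by
  haveI : Nontrivial V := Char.nontrivial_of_isIrreducible π
  refine { exists_pair_ne := ⟨⊥, ⊤, fun h => ?_⟩, eq_bot_or_eq_top := fun S => ?_ }
  · exact bot_ne_top (α := Submodule ℂ V) (congrArg Subrepresentation.toSubmodule h)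
  · let S' : Subrepresentation π := ⟨S.toSubmodule, fun n v hv => by
      obtain ⟨a, rfl⟩ := hf n
      exact S.apply_mem_toSubmodule a hv⟩
    rcases eq_bot_or_eq_top S' with h | h
    · exact Or.inl (Subrepresentation.toSubmodule_injective
        (congrArg (fun T : Subrepresentation π => T.toSubmodule) h :))
    · exact Or.inr (Subrepresentation.toSubmodule_injective
        (congrArg (fun T : Subrepresentation π => T.toSubmodule) h :))

variable {G : Type u} [Group G] [Finite G] {E : Subgroup G} [E.Normal]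

theorem commute_of_fixed_mod_center (hE : IsExtraspecial 2 E) (c : MulAut E) {e : E}
    (he : c e * e⁻¹ ∈ Subgroup.center E) (x : E) : Commute e (x * c x⁻¹) := by
  have hz : ⁅e, x⁻¹⁆ ∈ Subgroup.center E := commutator_mem hE e x⁻¹
  set z := ⁅e, x⁻¹⁆ with hzdef
  set y := x⁻¹ with hy
  have h1 : e * y = z * (y * e) := by rw [hzdef, commutatorElement_def]; group
  have hx : x = y⁻¹ := (inv_inv x).symm
  have h2 : e * c y = z * (c y * e) := by
    have h3 := congrArg c h1
    rw [map_mul, map_mul, map_mul, aut_apply_center hE c hz] at h3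
    set d := c e * e⁻¹ with hd
    have hce : c e = d * e := by rw [hd, inv_mul_cancel_right]
    rw [hce] at h3
    have hdc := Subgroup.mem_center_iff.1 he
    apply mul_left_cancel (a := d)
    rw [← mul_assoc, h3]
    rw [← mul_assoc (c y) d e, hdc (c y), mul_assoc d (c y) e, ← mul_assoc z d, hdc z, mul_assoc]
  have h4 : e * y⁻¹ = z⁻¹ * (y⁻¹ * e) := by
    have hzc := Subgroup.mem_center_iff.1 (Subgroup.inv_mem _ hz)
    rw [← mul_left_inj y, inv_mul_cancel_right, mul_assoc z⁻¹, mul_assoc y⁻¹, h1,
      ← mul_assoc y⁻¹, Subgroup.mem_center_iff.1 hz y⁻¹, mul_assoc z, inv_mul_cancel_left,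
      inv_mul_cancel_left]
  show e * (x * c y) = x * c y * e
  have hzc := Subgroup.mem_center_iff.1 (Subgroup.inv_mem _ hz)
  rw [hx, ← mul_assoc, h4, mul_assoc, mul_assoc, h2, ← mul_assoc y⁻¹,
    Subgroup.mem_center_iff.1 hz y⁻¹, mul_assoc z, inv_mul_cancel_left, mul_assoc]

theorem fixed_mem_center (hE : IsExtraspecial 2 E) (K : Subgroup G) (hEK : ⁅E, K⁆ = E) {e : E}
    (he : ∀ k ∈ K, MulAut.conjNormal k e * e⁻¹ ∈ Subgroup.center E) :
    e ∈ Subgroup.center E := by
  have hle : E ≤ Subgroup.centralizer {(e : G)} := by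
    conv_lhs => rw [← hEK]
    rw [Subgroup.commutator_le]
    intro x hx k hk
    have h := congrArg Subtype.val
      (commute_of_fixed_mod_center hE (MulAut.conjNormal k) (he k hk) ⟨x, hx⟩).eq
    rw [Subgroup.mem_centralizer_singleton_iff]
    simp only [Subgroup.coe_mul, MulAut.conjNormal_apply, Subgroup.coe_inv] at h
    rw [commutatorElement_def]
    simp only [mul_assoc] at h ⊢
    exact h.symm
  exact Subgroup.mem_center_iff.2 fun g =>
    Subtype.ext (Subgroup.mem_centralizer_singleton_iff.1 (hle g.2))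

variable {V : Type} [AddCommGroup V] [Module ℂ V] [FiniteDimensional ℂ V]

theorem invariant_character (hE : IsExtraspecial 2 E) (π : Representation ℂ E V)
    (hπ : Spin π) (g : G) (n : E) :
    π.character (MulAut.conjNormal g n) = π.character n := by
  by_cases hn : n ∈ Subgroup.center E
  · rw [aut_apply_center hE _ hn]
  · rw [Representation.character, Representation.character, trace_eq_zero hE hπ hn,
      trace_eq_zero hE hπ fun h => hn ?_]
    have := aut_apply_center hE (MulAut.conjNormal g : MulAut E).symm h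
    rw [MulEquiv.symm_apply_apply] at this
    rw [this]; exact h

/-- The spin representation extends. -/
theorem exists_extension (hE : IsExtraspecial 2 E) (H : Subgroup G) (hEH : E ⊓ H = ⊥)
    (hEHtop : E ⊔ H = ⊤) (K : Subgroup G)
    (hKn : ∀ h ∈ H, ∀ k ∈ K, h * k * h⁻¹ ∈ K) (hKodd : Odd (Nat.card K)) (hEK : ⁅E, K⁆ = E)
    (π : Representation ℂ E V) [π.IsIrreducible] (hπ : Spin π) :
    ∃ ρ : Representation ℂ G V, ∀ n : E, ρ n = π n := by
  refine Clifford.exists_extension_of_forall_prime π (invariant_character hE π hπ) fun p hp => ?_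
  haveI : Fact p.Prime := ⟨hp⟩
  have hcop : ∀ Q : Sylow p G, Nat.Coprime (E ⊔ Q.toSubgroup).index p := fun Q =>
    ((hp.coprime_iff_not_dvd).2 fun hd => Q.not_dvd_index
      (hd.trans (Subgroup.index_dvd_of_le le_sup_right))).symm
  by_cases hp2 : p = 2
  · subst hp2
    let Q : Sylow 2 G := default
    have hEQ : E ≤ Q.toSubgroup := by
      have h1 := IsPGroup.to_sup_of_normal_left hE.1.1 Q.isPGroup'
      exact (Q.is_maximal' h1 le_sup_right) ▸ le_sup_left
    set A : Subgroup Q.toSubgroup := E.subgroupOf Q.toSubgroup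
    set B : Subgroup Q.toSubgroup := H.subgroupOf Q.toSubgroup
    have hAB : A ⊔ B = ⊤ := by
      refine eq_top_iff.2 fun x _ => ?_
      obtain ⟨a, ha, b, hb, hab⟩ := Subgroup.mem_sup_of_normal_left.1
        (hEHtop.symm ▸ Subgroup.mem_top (x : G) : (x : G) ∈ E ⊔ H)
      have hbQ : b ∈ Q.toSubgroup := by
        rw [show b = a⁻¹ * x by rw [← hab, inv_mul_cancel_left]]
        exact Subgroup.mul_mem _ (Subgroup.inv_mem _ (hEQ ha)) x.2
      rw [show x = (⟨a, hEQ ha⟩ : Q.toSubgroup) * ⟨b, hbQ⟩ from Subtype.ext hab.symm]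
      exact Subgroup.mul_mem _ (Subgroup.mem_sup_left ha) (Subgroup.mem_sup_right hb)
    let σ : B →* MulAut E := (MulAut.conjNormal).comp (Q.toSubgroup.subtype.comp B.subtype)
    let K' : Subgroup (MulAut E) := K.map MulAut.conjNormal
    obtain ⟨P, hP, -⟩ := hasLift_main _ E rfl hE B (Q.isPGroup'.to_subgroup B) σ K'
      (hKodd.of_dvd_nat (Subgroup.card_map_dvd _ _))
      (by
        rintro s _ ⟨k, hk, rfl⟩
        refine ⟨((s : Q.toSubgroup) : G) * k * ((s : Q.toSubgroup) : G)⁻¹,
          hKn _ s.2 k hk, by rw [map_mul, map_mul, map_inv]; rfl⟩)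
      (fun e he => fixed_mem_center hE K hEK fun k hk => he _ ⟨k, hk, rfl⟩) V π hπ
    obtain ⟨η, hη, -⟩ := exists_hom_of_sup A B hAB
      ((U π).comp (Subgroup.subgroupOfEquivOfLe hEQ).toMonoidHom) P
      (fun a b hab => by
        have h1 : ((a : Q.toSubgroup) : G) = 1 := by
          rw [← Subgroup.mem_bot, ← hEH]
          exact ⟨a.2, show ((a : Q.toSubgroup) : G) ∈ H by rw [hab]; exact b.2⟩
        rw [show a = 1 from Subtype.ext (Subtype.ext h1),
          show b = 1 from Subtype.ext (hab ▸ Subtype.ext h1), map_one, map_one])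
      (fun b a a' h => by
        rw [eq_mul_inv_iff_mul_eq]
        refine (?_ : _ = U π (σ b ((Subgroup.subgroupOfEquivOfLe hEQ) a)) * P b).trans
          (hP b _).symm
        refine congrArg (fun t : E => U π t * P b) (Subtype.ext ?_)
        show ((a' : Q.toSubgroup) : G) = _
        rw [h]
        rfl)
    refine ⟨Q.toSubgroup, hEQ, (Units.coeHom _).comp η, ?_, fun n => ?_⟩
    · have := hcop Q
      rwa [sup_eq_right.2 hEQ] at this
    · show ((η ⟨(n : G), hEQ n.2⟩ : (Module.End ℂ V)ˣ) : Module.End ℂ V) = π n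
      rw [show (⟨(n : G), hEQ n.2⟩ : Q.toSubgroup) =
        ((⟨⟨(n : G), hEQ n.2⟩, n.2⟩ : A) : Q.toSubgroup) from rfl, hη]
      rfl
  · let Q : Sylow p G := default
    set P := E ⊔ Q.toSubgroup
    have hEP : E ≤ P := le_sup_left
    set N : Subgroup P := E.subgroupOf P
    let f : N ≃* E := Subgroup.subgroupOfEquivOfLe hEP
    let θ : Representation ℂ N V := π.comp f.toMonoidHom
    haveI : θ.IsIrreducible := isIrreducible_comp_surjective π _ f.surjective
    have hk : ∀ n : N, LinearMap.det (θ n) ^ Nat.card E = 1 := fun n => by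
      show LinearMap.det (π (f n)) ^ Nat.card E = 1
      rw [← map_pow, ← map_pow, pow_card_eq_one', map_one, map_one]
    have hidx : Nat.Coprime N.index (finrank ℂ V * Nat.card E) := by
      have h1 : N.index ∣ Nat.card Q.toSubgroup := by
        show E.relIndex (E ⊔ Q.toSubgroup) ∣ _
        rw [Subgroup.relIndex_sup_left]
        exact Subgroup.relIndex_dvd_card _ _
      obtain ⟨a, ha⟩ := IsPGroup.iff_card.1 Q.isPGroup'
      obtain ⟨b, hb⟩ := (IsPGroup.iff_card (p := 2)).1 hE.1.1
      have h2 : finrank ℂ V * Nat.card E ∣ 2 ^ (b + b) := by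
        rw [pow_add, hb]
        refine mul_dvd_mul_right ?_ _
        rw [← hb, card_eq hE hπ]
        exact (dvd_pow_self _ two_ne_zero).mul_left 2
      refine Nat.Coprime.coprime_dvd_left h1 (Nat.Coprime.coprime_dvd_right h2 ?_)
      rw [ha]
      exact Nat.Coprime.pow _ _ ((Nat.coprime_primes hp Nat.prime_two).2 hp2)
    obtain ⟨η, hη⟩ := Clifford.exists_extension_of_coprime θ (fun g n => by
        refine Eq.trans ?_ (invariant_character hE π hπ (g : G) (f n))
        show LinearMap.trace ℂ V (π (f (MulAut.conjNormal g n))) = _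
        congr 2)
      Nat.card_pos.ne' hk hidx
    exact ⟨P, hEP, η, hcop Q, fun n => hη ⟨⟨(n : G), hEP n.2⟩, n.2⟩⟩

end Cfsg.Agent.SpinExt
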